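import Groth.Agent.Adeq2Lib.SheafOps
import Groth.Agent.AdeqFound.CechOne

/-!
# Exactness of sections of adequate modules
-/

set_option autoImplicit false

universe u

open CategoryTheory Limits AlgebraicGeometry Opposite TensorProduct

namespace Groth.Agent.Adeq2Lib

open Groth.Agent.AdeqFound

variable {S : Scheme.{u}}

/-- Sections over an object as a functor. -/
noncomputable abbrev secF (U : Over S) :
    BigSite.Mod Scheme.fppfPrecoverage S ⥤ ModuleCat.{u + 1} ((BigSite.ORing Scheme.fppfPrecoverage S).obj.obj (op U)) :=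
  SheafOfModules.forget _ ⋙ PresheafOfModules.evaluation.{u + 1} _ (op U)

theorem sec_exact (C : ShortComplex (BigSite.Mod Scheme.fppfPrecoverage S)) (hC : C.Exact) [Mono C.f] (U : Over S) :
    Function.Injective (C.f.val.app (op U)) ∧ Function.Exact (C.f.val.app (op U)) (C.g.val.app (op U)) := by
  haveI : (secF U).Additive := ⟨fun {_ _ _ _} => rfl⟩
  haveI : (secF U).PreservesZeroMorphisms := inferInstance
  haveI : PreservesFiniteLimits (secF U) := inferInstance
  haveI : PreservesLimit (parallelPair C.g 0) (secF U) := inferInstance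
  haveI : Mono ((secF U).map C.f) := inferInstance
  exact ⟨(ModuleCat.mono_iff_injective ((secF U).map C.f)).1 inferInstance,
    (ShortComplex.ShortExact.moduleCat_exact_iff_function_exact _).1
      (hC.map_of_mono_of_preservesKernel (secF U) ‹_› ‹_›)⟩

theorem rs_nat {M N : BigSite.Mod Scheme.fppfPrecoverage S} (f : M ⟶ N) {U V : Over S} (g : U ⟶ V) (x : M.val.obj (op V)) :
    f.val.app (op U) (rs M.val g x) = rs N.val g (f.val.app (op V) x) :=
  PresheafOfModules.naturality_apply f.val g.op x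

theorem locally_surjective_of_epi {M N : BigSite.Mod Scheme.fppfPrecoverage S} (f : M ⟶ N) [Epi f] (U : Over S)
    (y : N.val.obj (op U)) : ∃ σ ∈ QuotSh.J Scheme.fppfPrecoverage S U, ∀ ⦃W : Over S⦄ (g : W ⟶ U), σ g →
      ∃ x, f.val.app (op W) x = rs N.val g y := by
  let adj := PresheafOfModules.sheafificationAdjunction (𝟙 (BigSite.ORing Scheme.fppfPrecoverage S).obj)
  let π : N.val ⟶ cokernel f.val := cokernel.π f.val
  have hfπ : f.val ≫ π = 0 := cokernel.condition _
  let c := asIso adj.counit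
  have h0 : (aMod S).map π = 0 := by
    have h1 : c.inv.app N ≫ (aMod S).map π = 0 := by
      rw [← cancel_epi f, comp_zero]
      have h2 := c.inv.naturality f
      refine ((Category.assoc _ _ _).symm.trans (congrArg (fun w => w ≫ (aMod S).map π) h2)).trans ?_
      refine (Category.assoc _ _ _).trans ?_
      exact (congrArg (fun w => c.inv.app M ≫ w)
        (((aMod S).map_comp f.val π).symm.trans ((congrArg (aMod S).map hfπ).trans ((aMod S).map_zero _ _)))).trans comp_zero
    exact (cancel_epi (c.inv.app N)).1 (h1.trans comp_zero.symm)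
  have h3 : π ≫ adj.unit.app (cokernel f.val) = 0 := by
    refine (adj.unit.naturality π).trans ?_
    show adj.unit.app N.val ≫ (SheafOfModules.forget _ ⋙ PresheafOfModules.restrictScalars
      (𝟙 (BigSite.ORing Scheme.fppfPrecoverage S).obj)).map ((aMod S).map π) = 0
    rw [h0, Functor.map_zero, comp_zero]
  let η := (PresheafOfModules.toPresheaf _).map (adj.unit.app (cokernel f.val))
  haveI : Presheaf.IsLocallyInjective (QuotSh.J Scheme.fppfPrecoverage S) η :=
    inferInstanceAs (Presheaf.IsLocallyInjective (QuotSh.J Scheme.fppfPrecoverage S)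
      (CategoryTheory.toSheafify (QuotSh.J Scheme.fppfPrecoverage S) (cokernel f.val).presheaf))
  let q : ToType (((PresheafOfModules.toPresheaf _).obj (cokernel f.val)).obj (op U)) := π.app (op U) y
  have hq : η.app (op U) q = η.app (op U) 0 := by
    rw [map_zero]
    exact congrArg (fun w => (PresheafOfModules.Hom.app w (op U)) y) h3
  refine ⟨_, Presheaf.equalizerSieve_mem (QuotSh.J Scheme.fppfPrecoverage S) η (X := op U) q 0 hq, fun W g hg => ?_⟩
  have h4 : π.app (op W) (rs N.val g y) = 0 :=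
    (PresheafOfModules.naturality_apply π g.op y).trans (hg.trans (map_zero (rs (cokernel f.val) g)))
  haveI : (PresheafOfModules.evaluation.{u + 1} (BigSite.ORing Scheme.fppfPrecoverage S).obj (op W)).Additive :=
    ⟨fun {_ _ _ _} => rfl⟩
  haveI : PreservesFiniteLimits (PresheafOfModules.evaluation.{u + 1} (BigSite.ORing Scheme.fppfPrecoverage S).obj (op W)) :=
    ⟨fun _ _ _ => ⟨fun {F} => PresheafOfModules.evaluation_preservesLimit F _⟩⟩
  haveI : PreservesFiniteColimits (PresheafOfModules.evaluation.{u + 1} (BigSite.ORing Scheme.fppfPrecoverage S).obj (op W)) :=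
    ⟨fun _ _ _ => ⟨fun {F} => PresheafOfModules.evaluation_preservesColimit F _⟩⟩
  exact ((ShortComplex.ShortExact.moduleCat_exact_iff_function_exact _).1
    ((ShortComplex.exact_cokernel f.val).map (PresheafOfModules.evaluation.{u + 1} _ (op W))) _).1 h4

theorem parasitic_mid (C : ShortComplex (BigSite.Mod Scheme.fppfPrecoverage S)) (hC : C.Exact)
    (p₁ : Adeq.parasitic Scheme.fppfPrecoverage S C.X₁) (p₃ : Adeq.parasitic Scheme.fppfPrecoverage S C.X₃) :
    Adeq.parasitic Scheme.fppfPrecoverage S C.X₂ := by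
  intro U hU
  refine ⟨fun x y => sub_eq_zero.1 ?_⟩
  generalize x - y = z
  let K : ShortComplex (BigSite.Mod Scheme.fppfPrecoverage S) := ShortComplex.mk _ _ (kernel.condition C.g)
  obtain ⟨w, rfl⟩ := ((sec_exact K (ShortComplex.exact_kernel C.g) U).2 z).1 ((p₃ U hU).elim _ _)
  haveI : Epi (kernel.lift C.g C.f C.zero) := (ShortComplex.exact_iff_epi_kernel_lift C).1 hC
  obtain ⟨σ, hσ, hσw⟩ := locally_surjective_of_epi (kernel.lift C.g C.f C.zero) U w
  obtain ⟨T, hT, hTσ⟩ := (Precoverage.mem_toGrothendieck_iff_of_isStableUnderComposition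
    (J := Scheme.precoverage (Pfppf : MorphismProperty Scheme.{u}))).1 hσ
  obtain ⟨ι, X, f, rfl⟩ := T.exists_eq_ofArrows
  have hT' := ((Scheme.ofArrows_mem_precoverage_iff _).1 hT)
  refine eq_zero_of_cover C.X₂ (fun i => Over.mk (f i ≫ U.hom)) (fun i => (Over.homMk (f i) rfl : Over.mk (f i ≫ U.hom) ⟶ U))
    (Precoverage.generate_mem_toGrothendieck hT) _ fun i => ?_
  obtain ⟨v, hv⟩ := hσw _ ((Sieve.overEquiv_iff σ (f i)).1 (hTσ _ _ (Presieve.ofArrows.mk i)))
  haveI : Flat U.hom := hU
  haveI : Flat (f i) := (hT'.2 i).1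
  have hv0 : v = 0 := (p₁ (Over.mk (f i ≫ U.hom)) (inferInstanceAs (Flat (f i ≫ U.hom)))).elim _ _
  have h5 := rs_nat (kernel.ι C.g) (Over.homMk (f i) rfl : Over.mk (f i ≫ U.hom) ⟶ U) w
  rw [← hv, hv0, map_zero, map_zero] at h5
  exact h5.symm

theorem good_toMVF_kernel {M N : BigSite.Mod Scheme.fppfPrecoverage S} (φ : M ⟶ N)
    (hM : Adeq.adequateMod Scheme.fppfPrecoverage S M) (hN : Adeq.adequateMod Scheme.fppfPrecoverage S N)
    (R : CommRingCat.{u}) (a : Spec R ⟶ S) : Good ((Adeq.toMVF Scheme.fppfPrecoverage a).obj (kernel φ)) := by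
  have hN' := good_of_adequateMod_fppf S N hN R a
  let T := Adeq.toMVF Scheme.fppfPrecoverage a
  refine good_of_kernel (good_of_adequateMod_fppf S M hM R a) (T.map (kernel.ι φ)) (T.map φ) (fun C => (hN'.poly C).1)
    hN'.rel fun B => ?_
  obtain ⟨h₁, h₂⟩ := sec_exact (ShortComplex.mk _ _ (kernel.condition φ)) (ShortComplex.exact_kernel φ)
    ((Adeq.specOver a).obj (op B))
  exact ⟨h₁, h₂⟩

theorem surjective_affine (C : ShortComplex (BigSite.Mod Scheme.fppfPrecoverage S)) (hC : C.ShortExact)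
    (h₁ : Adeq.adequateMod Scheme.fppfPrecoverage S C.X₁) {R : CommRingCat.{u}} (a : Spec R ⟶ S) :
    Function.Surjective (C.g.val.app (op (Over.mk a))) := by
  intro y
  haveI := hC.mono_f
  haveI := hC.epi_g
  obtain ⟨σ, hσ, hσy⟩ := locally_surjective_of_epi C.g (Over.mk a) y
  obtain ⟨J, _, A', φ, hP, hs, hJ⟩ := exists_refine (P := Pfppf) localProp_fppf a σ hσ
  letI : ∀ j, Algebra R (A' j) := fun j => (φ j).hom.toAlgebra
  haveI := faithfullyFlat_of_cover (P := Pfppf) pfppf_le_flat A' φ hP hs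
  choose x hx using fun j => hσy _ (hJ j)
  let G := Adeq.toMVFPre Scheme.fppfPrecoverage a
  let B' : J → Adeq.Alg R := fun j => Adeq.algOf R (A' j)
  let xv : ∀ j, (G.obj C.X₂.val).obj (Adeq.pt (B' j)) := fun j => (evS C.X₂.val a (B' j)).symm (x j)
  let y₀ := (evS C.X₃.val a (Adeq.algOf R R)).symm (rs C.X₃.val (baseIso a).hom y)
  have hgx : ∀ j, ap (G.map C.g.val) (B' j) (xv j) = mp (G.obj C.X₃.val) (ofBase (A := R) (A' j)) y₀ := fun j => by
    refine (evS C.X₃.val a _).injective ?_
    rw [evS_mp, AddEquiv.apply_symm_apply, rs_comp, ofBase_comp]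
    exact hx j
  have hex : ∀ B : Adeq.Alg R, Function.Injective (ap (G.map C.f.val) B) ∧
      Function.Exact (ap (G.map C.f.val) B) (ap (G.map C.g.val) B) := fun B =>
    sec_exact C hC.exact ((Adeq.specOver a).obj (op B))
  have hc : ∀ j k, ∃ c, ap (G.map C.f.val) (Adeq.algOf R ((A' j : Type u) ⊗[R] (A' k : Type u))) c =
      mp (G.obj C.X₂.val) (alg (inL (A := R) (fun j => (A' j : Type u)) j k)) (xv j) -
        mp (G.obj C.X₂.val) (alg (inR (A := R) (fun j => (A' j : Type u)) j k)) (xv k) := fun j k => by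
    refine ((hex _).2 _).1 ?_
    rw [map_sub, nat_ap, nat_ap, hgx, hgx, mp_comp, mp_comp,
      show ofBase (A := R) (A' j : Type u) ≫ alg (inL (A := R) (fun j => (A' j : Type u)) j k) =
        ofBase (A := R) (A' k : Type u) ≫ alg (inR (A := R) (fun j => (A' j : Type u)) j k) from
        CommAlgCat.hom_ext (Subsingleton.elim _ _), sub_self]
  choose c hc using hc
  have hG₁ : Good (G.obj C.X₁.val) := good_of_adequateMod_fppf S C.X₁ h₁ R a
  obtain ⟨z, hz⟩ := hG₁.cech_one (fun j => (A' j : Type u)) c fun i j k => by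
    refine (hex _).1 ?_
    rw [map_sub]
    erw [nat_ap, nat_ap, nat_ap, hc, hc, hc]
    simp only [map_sub, mp_comp]
    have e1 : alg (inL (A := R) (fun j => (A' j : Type u)) j k) ≫ alg (face0 (A := R) (fun j => (A' j : Type u)) i j k) =
        alg (inR (A := R) (fun j => (A' j : Type u)) i j) ≫ alg (face2 (A := R) (fun j => (A' j : Type u)) i j k) :=
      CommAlgCat.hom_ext (DFunLike.ext _ _ fun t => rfl)
    have e2 : alg (inR (A := R) (fun j => (A' j : Type u)) j k) ≫ alg (face0 (A := R) (fun j => (A' j : Type u)) i j k) =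
        alg (inR (A := R) (fun j => (A' j : Type u)) i k) ≫ alg (face1 (A := R) (fun j => (A' j : Type u)) i j k) :=
      CommAlgCat.hom_ext (DFunLike.ext _ _ fun t => rfl)
    have e3 : alg (inL (A := R) (fun j => (A' j : Type u)) i j) ≫ alg (face2 (A := R) (fun j => (A' j : Type u)) i j k) =
        alg (inL (A := R) (fun j => (A' j : Type u)) i k) ≫ alg (face1 (A := R) (fun j => (A' j : Type u)) i j k) :=
      CommAlgCat.hom_ext (AlgHom.ext fun t => by
        show Algebra.TensorProduct.map _ _ (t ⊗ₜ[R] (1 : (A' j : Type u))) =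
          Algebra.TensorProduct.map _ _ (t ⊗ₜ[R] (1 : (A' k : Type u)))
        rw [Algebra.TensorProduct.map_tmul, Algebra.TensorProduct.map_tmul, map_one, map_one])
    rw [e1, e2, e3]
    abel
  let w : ∀ j, (G.obj C.X₂.val).obj (Adeq.pt (B' j)) := fun j => xv j - ap (G.map C.f.val) (B' j) (z j)
  let D : J → Over S := fun j => Over.mk (Spec.map (φ j) ≫ a)
  have hcov : Sieve.generate (Presieve.ofArrows (fun j => Spec (A' j)) fun j => Spec.map (φ j)) ∈
      (Scheme.precoverage Pfppf).toGrothendieck (Spec R) :=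
    Precoverage.generate_mem_toGrothendieck (by rw [Scheme.ofArrows_mem_precoverage_iff]; exact ⟨hs, hP⟩)
  let g : ∀ j, D j ⟶ Over.mk a := fun j => Over.homMk (Spec.map (φ j)) rfl
  suffices hcompat : ∀ (j k : J) (W : Over S) (p : W ⟶ D j) (q : W ⟶ D k), p ≫ g j = q ≫ g k →
      rs C.X₂.val p (evS C.X₂.val a (B' j) (w j)) = rs C.X₂.val q (evS C.X₂.val a (B' k) (w k)) by
    obtain ⟨m, hm⟩ := glue C.X₂ D g hcov (fun j => evS C.X₂.val a (B' j) (w j)) hcompat
    refine ⟨m, ?_⟩
    rw [← sub_eq_zero]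
    refine eq_zero_of_cover C.X₃ D g hcov _ fun j => ?_
    rw [map_sub, sub_eq_zero, ← rs_nat]
    refine (congrArg (C.g.val.app (op (D j))) (hm j)).trans ?_
    have h6 : ap (G.map C.g.val) (B' j) (w j) = mp (G.obj C.X₃.val) (ofBase (A := R) (A' j)) y₀ := by
      rw [map_sub, hgx, ((hex _).2 _).2 ⟨z j, rfl⟩, sub_zero]
    refine (congrArg (evS C.X₃.val a (B' j)) h6).trans ?_
    rw [evS_mp, AddEquiv.apply_symm_apply, rs_comp, ofBase_comp]
    rfl
  intro j k W p q hpq
  have hw : mp (G.obj C.X₂.val) (alg (inL (A := R) (fun j => (A' j : Type u)) j k)) (w j) =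
      mp (G.obj C.X₂.val) (alg (inR (A := R) (fun j => (A' j : Type u)) j k)) (w k) := by
    rw [← sub_eq_zero, map_sub, map_sub, ← nat_ap, ← nat_ap, sub_sub_sub_comm, ← hc, ← map_sub, ← map_sub, hz, sub_self, map_zero]
  have hpb := isPullback_tensor (R := R) (A' j : Type u) (Adeq.algOf R (A' k))
  let h := hpb.lift p.left q.left (congrArg (fun w => w.left) hpq)
  let T : Over S := (Adeq.specOver a).obj (op (Adeq.algOf R ((A' j : Type u) ⊗[R] (A' k : Type u))))
  let l₁ : T ⟶ D j := (Adeq.specOver a).map (alg (inL (A := R) (fun j => (A' j : Type u)) j k)).op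
  let l₂ : T ⟶ D k := (Adeq.specOver a).map (alg (inR (A := R) (fun j => (A' j : Type u)) j k)).op
  have hh₁ : h ≫ l₁.left = p.left := hpb.lift_fst _ _ _
  have hh₂ : h ≫ l₂.left = q.left := hpb.lift_snd _ _ _
  let hO : W ⟶ T := Over.homMk h ((congrArg (fun w => h ≫ w) (Over.w l₁).symm).trans ((Category.assoc _ _ _).symm.trans
    ((congrArg (fun w => w ≫ _) hh₁).trans (Over.w p))))
  rw [show p = hO ≫ l₁ from Over.OverMorphism.ext hh₁.symm, show q = hO ≫ l₂ from Over.OverMorphism.ext hh₂.symm,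
    ← rs_comp, ← rs_comp]
  exact congrArg (rs C.X₂.val hO) (congrArg (evS C.X₂.val a _) hw)

theorem good_toMVF_shortExact (C : ShortComplex (BigSite.Mod Scheme.fppfPrecoverage S)) (hC : C.ShortExact)
    (h₁ : Adeq.adequateMod Scheme.fppfPrecoverage S C.X₁) (h₃ : Adeq.adequateMod Scheme.fppfPrecoverage S C.X₃)
    (R : CommRingCat.{u}) (a : Spec R ⟶ S) : Good ((Adeq.toMVF Scheme.fppfPrecoverage a).obj C.X₂) := by
  haveI := hC.mono_f
  let T := Adeq.toMVF Scheme.fppfPrecoverage a
  refine good_ext (T.map C.f) (T.map C.g) (fun B => (sec_exact C hC.exact _).1)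
    (fun B => surjective_affine C hC h₁ (R := CommRingCat.of (B : Type u))
      (Spec.map (CommRingCat.ofHom (algebraMap R (B : Type u))) ≫ a))
    (fun B => (sec_exact C hC.exact _).2) (good_of_adequateMod_fppf S C.X₁ h₁ R a) (good_of_adequateMod_fppf S C.X₃ h₃ R a)

end Groth.Agent.Adeq2Lib
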