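import Groth.Agent.Adeq2Lib.CechAffine
import Groth.Agent.Adeq2Lib.SheafExact
import Mathlib.CategoryTheory.Sites.SheafCohomology.Basic
import Mathlib.AlgebraicGeometry.Sites.Fpqc
import Mathlib.AlgebraicGeometry.Limits
import Mathlib.CategoryTheory.Sites.EpiMono

/-!
# Vanishing of the cohomology of adequate modules on affine schemes
-/

set_option autoImplicit false

universe u w

open CategoryTheory Limits AlgebraicGeometry Opposite Abelian TensorProduct

namespace Groth.Agent.Adeq2Lib.AffVan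

open Groth.Agent.AdeqFound CechSingle CechAffine

variable {T : Scheme.{u}}

/-- Abelian sheaves on the big site. -/
abbrev AbT (T : Scheme.{u}) : Type (u + 2) := BigSite.Ab Scheme.fppfPrecoverage T

variable (G : AbT T)

/-- Restriction of sections. -/
noncomputable abbrev rA {U V : Over T} (g : U ⟶ V) : G.obj.obj (op V) →+ G.obj.obj (op U) := (G.obj.map g.op).hom

theorem rA_comp {U V W : Over T} (f : U ⟶ V) (g : V ⟶ W) (x : G.obj.obj (op W)) : rA G f (rA G g x) = rA G (f ≫ g) x := by
  show _ = (G.obj.map (g.op ≫ f.op)).hom x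
  rw [G.obj.map_comp]; rfl

theorem rA_id {U : Over T} (x : G.obj.obj (op U)) : rA G (𝟙 U) x = x :=
  ConcreteCategory.congr_hom (G.obj.map_id (op U)) x

theorem isSheafForA {I : Type w} {Y : Over T} (Z : I → Over T) (g : ∀ i, Z i ⟶ Y)
    (h : Sieve.generate (Presieve.ofArrows (fun i => (Z i).left) fun i => (g i).left) ∈
      Scheme.fppfPrecoverage.toGrothendieck Y.left) :
    Presieve.IsSheafFor (G.obj ⋙ CategoryTheory.forget AddCommGrpCat.{u + 1}) (Presieve.ofArrows Z g) := by
  have hG := (Presheaf.isSheaf_iff_isSheaf_forget (QuotSh.J Scheme.fppfPrecoverage T) _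
    (CategoryTheory.forget AddCommGrpCat.{u + 1})).1 G.property
  rw [isSheaf_iff_isSheaf_of_type] at hG
  rw [Presieve.isSheafFor_iff_generate]
  refine hG _ ?_
  show Sieve.overEquiv Y (Sieve.ofArrows Z g) ∈ Scheme.fppfPrecoverage.toGrothendieck Y.left
  rw [Sieve.overEquiv_ofArrows]
  exact h

theorem eq_of_cover {I : Type w} {Y : Over T} (Z : I → Over T) (g : ∀ i, Z i ⟶ Y)
    (h : Sieve.generate (Presieve.ofArrows (fun i => (Z i).left) fun i => (g i).left) ∈
      Scheme.fppfPrecoverage.toGrothendieck Y.left)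
    (x y : G.obj.obj (op Y)) (hxy : ∀ i, rA G (g i) x = rA G (g i) y) : x = y :=
  (isSheafForA G Z g h).isSeparatedFor.ext (P := _) fun W w hw => by
    obtain ⟨i⟩ := hw
    exact hxy i

theorem glueA {I : Type w} {Y : Over T} (Z : I → Over T) (g : ∀ i, Z i ⟶ Y)
    (h : Sieve.generate (Presieve.ofArrows (fun i => (Z i).left) fun i => (g i).left) ∈
      Scheme.fppfPrecoverage.toGrothendieck Y.left)
    (y : ∀ i, G.obj.obj (op (Z i)))
    (hy : ∀ i j (W : Over T) (p : W ⟶ Z i) (q : W ⟶ Z j), p ≫ g i = q ≫ g j → rA G p (y i) = rA G q (y j)) :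
    ∃ x, ∀ i, rA G (g i) x = y i :=
  ((Presieve.isSheafFor_arrows_iff _ _).1 (isSheafForA G Z g h) y hy).exists

theorem eq_of_isEmpty {W : Over T} [IsEmpty W.left] (x y : G.obj.obj (op W)) : x = y := by
  refine eq_of_cover G (I := PEmpty.{1}) (fun i => i.elim) (fun i => i.elim) ?_ x y fun i => i.elim
  refine Precoverage.generate_mem_toGrothendieck (J := Scheme.precoverage (Pfppf : MorphismProperty Scheme.{u})) ?_
  rw [Scheme.ofArrows_mem_precoverage_iff]
  exact ⟨fun z => isEmptyElim z, fun i => i.elim⟩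

variable {R : CommRingCat.{u}} (a : Spec R ⟶ T) (B : Type u) [CommRing B] [Algebra R B]

/-- The presheaf on schemes over an affine object. -/
noncomputable abbrev pr : (Over (Spec R))ᵒᵖ ⥤ AddCommGrpCat.{u + 1} := (Over.map a).op ⋙ G.obj

/-- The covering object over the base. -/
noncomputable abbrev cov : Over T := (Over.map a).obj (X₀ (R := R) B)

/-- The covering map. -/
noncomputable def covMap : cov a B ⟶ Over.mk a :=
  Over.homMk (X₀ (R := R) B).hom rfl

variable [Module.FaithfullyFlat R B] [LocallyOfFinitePresentation (Spec.map (CommRingCat.ofHom (algebraMap R B)))]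

theorem cov_mem : Sieve.generate (Presieve.ofArrows (fun _ : PUnit.{1} => (cov a B).left) fun _ => (covMap a B).left) ∈
    Scheme.fppfPrecoverage.toGrothendieck (Over.mk a).left := by
  have hfs := (flat_and_surjective_SpecMap_iff (CommRingCat.ofHom (algebraMap R B))).2
    (RingHom.faithfullyFlat_algebraMap_iff.2 inferInstance)
  haveI := hfs.1
  haveI := hfs.2
  have h : (covMap a B).left = Spec.map (CommRingCat.ofHom (algebraMap R B)) := sp_hom R _
  haveI : Flat (covMap a B).left := by rw [h]; exact hfs.1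
  haveI : Surjective (covMap a B).left := by rw [h]; exact hfs.2
  haveI : LocallyOfFinitePresentation (covMap a B).left := by rw [h]; exact ‹LocallyOfFinitePresentation _›
  rw [Presieve.ofArrows_pUnit]
  exact Precoverage.generate_mem_toGrothendieck (Scheme.Hom.singleton_mem_fppfPrecoverage _)

theorem ext_cov (x y : G.obj.obj (op (Over.mk a))) (h : rA G (covMap a B) x = rA G (covMap a B) y) : x = y :=
  eq_of_cover G (fun _ : PUnit.{1} => cov a B) (fun _ => covMap a B) (cov_mem a B) x y fun _ => h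

omit [Module.FaithfullyFlat R B] [LocallyOfFinitePresentation (Spec.map (CommRingCat.ofHom (algebraMap R B)))] in
theorem pi_covMap_eq (j k : Fin (1 + 1)) :
    (Over.map a).map (Pi.π (fun _ : Fin (1 + 1) => X₀ (R := R) B) j) ≫ covMap a B =
      (Over.map a).map (Pi.π (fun _ : Fin (1 + 1) => X₀ (R := R) B) k) ≫ covMap a B := by
  refine Over.OverMorphism.ext ?_
  show (Pi.π (fun _ : Fin (1 + 1) => X₀ (R := R) B) j).left ≫ (X₀ (R := R) B).hom =
    (Pi.π (fun _ : Fin (1 + 1) => X₀ (R := R) B) k).left ≫ (X₀ (R := R) B).hom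
  rw [Over.w, Over.w]

theorem glue_cov (x : (pr G a).obj (op (pw (X₀ (R := R) B) 0))) (hx : D (X₀ (R := R) B) (pr G a) 0 x = 0) :
    ∃ z, rA G ((Over.map a).map (Pi.π (fun _ : Fin 1 => X₀ (R := R) B) 0) ≫ covMap a B) z = x := by
  let σ₁ : X₀ (R := R) B ⟶ pw (X₀ (R := R) B) 0 := Pi.lift fun _ => 𝟙 _
  have hσ : σ₁ ≫ Pi.π (fun _ : Fin 1 => X₀ (R := R) B) 0 = 𝟙 _ := Pi.lift_π _ _
  have hσ' : Pi.π (fun _ : Fin 1 => X₀ (R := R) B) 0 ≫ σ₁ = 𝟙 _ := Pi.hom_ext _ _ fun k => by
    obtain rfl : k = 0 := Fin.eq_zero k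
    rw [Category.assoc, hσ, Category.comp_id, Category.id_comp]
  rw [D_apply, Fin.sum_univ_two, Fin.val_zero, pow_zero, one_smul, Fin.val_one, pow_one, neg_smul, one_smul,
    add_neg_eq_zero] at hx
  have hx' : rA G ((Over.map a).map (fc (X₀ (R := R) B) (0 : Fin 2))) x = rA G ((Over.map a).map (fc (X₀ (R := R) B) (1 : Fin 2))) x := hx
  obtain ⟨z, hz⟩ := glueA G (fun _ : PUnit.{1} => cov a B) (fun _ => covMap a B) (cov_mem a B)
    (fun _ => rA G ((Over.map a).map σ₁) x) fun _ _ W p q hpq => by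
      let W' : Over (Spec R) := Over.mk (p.left ≫ (X₀ (R := R) B).hom)
      let p' : W' ⟶ X₀ (R := R) B := Over.homMk p.left rfl
      let q' : W' ⟶ X₀ (R := R) B := Over.homMk q.left (congrArg CommaMorphism.left hpq).symm
      let ι : W ⟶ (Over.map a).obj W' := Over.homMk (𝟙 _) (by
        refine (Category.id_comp _).trans ?_
        exact ((Category.assoc _ _ _).trans (Over.w p)))
      have hp : p = ι ≫ (Over.map a).map p' := Over.OverMorphism.ext (Category.id_comp _).symm
      have hq : q = ι ≫ (Over.map a).map q' := Over.OverMorphism.ext (Category.id_comp _).symm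
      let m : W' ⟶ pw (X₀ (R := R) B) 1 := Pi.lift ![q', p']
      have h0 : m ≫ fc (X₀ (R := R) B) (0 : Fin 2) = p' ≫ σ₁ := Pi.hom_ext _ _ fun k => by
        obtain rfl : k = 0 := Fin.eq_zero k
        rw [Category.assoc, fc_π, Category.assoc, hσ, Category.comp_id]
        exact Pi.lift_π _ _
      have h1 : m ≫ fc (X₀ (R := R) B) (1 : Fin 2) = q' ≫ σ₁ := Pi.hom_ext _ _ fun k => by
        obtain rfl : k = 0 := Fin.eq_zero k
        rw [Category.assoc, fc_π, Category.assoc, hσ, Category.comp_id]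
        exact Pi.lift_π _ _
      rw [rA_comp, rA_comp, hp, hq, Category.assoc, Category.assoc, ← Functor.map_comp, ← Functor.map_comp, ← h0, ← h1,
        Functor.map_comp, Functor.map_comp, ← rA_comp G ι, ← rA_comp G ι, ← rA_comp, ← rA_comp, hx']
  refine ⟨z, ?_⟩
  rw [← rA_comp, hz PUnit.unit, rA_comp, ← Functor.map_comp, hσ', CategoryTheory.Functor.map_id, rA_id]

omit [Module.FaithfullyFlat R B] [LocallyOfFinitePresentation (Spec.map (CommRingCat.ofHom (algebraMap R B)))] in
theorem D_restr (z : G.obj.obj (op (Over.mk a))) :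
    D (X₀ (R := R) B) (pr G a) 0 (rA G ((Over.map a).map (Pi.π (fun _ : Fin 1 => X₀ (R := R) B) 0) ≫ covMap a B) z) = 0 := by
  rw [D_apply, Fin.sum_univ_two, Fin.val_zero, pow_zero, one_smul, Fin.val_one, pow_one, neg_smul, one_smul, add_neg_eq_zero]
  show rA G ((Over.map a).map (fc _ 0)) (rA G _ z) = rA G ((Over.map a).map (fc _ 1)) (rA G _ z)
  rw [rA_comp, rA_comp, ← Category.assoc, ← Category.assoc, ← Functor.map_comp, ← Functor.map_comp, fc_π, fc_π,
    pi_covMap_eq]

/-- The class of sheaves without higher Cech cohomology for affine coverings of affine objects. -/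
def Acy (G : AbT T) : Prop :=
  ∀ (R : CommRingCat.{u}) (a : Spec R ⟶ T) (B : Type u) [CommRing B] [Algebra R B] [Module.FaithfullyFlat R B]
    [LocallyOfFinitePresentation (Spec.map (CommRingCat.ofHom (algebraMap R B)))] (n : ℕ),
    Ex (X₀ (R := R) B) (pr G a) n

/-- Sections over an object. -/
noncomputable abbrev secA (U : Over T) : AbT T ⥤ AddCommGrpCat.{u + 1} :=
  sheafToPresheaf _ _ ⋙ (evaluation _ _).obj (op U)

theorem secA_exact (E : ShortComplex (AbT T)) (hE : E.ShortExact) (U : Over T) :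
    Function.Injective (E.f.hom.app (op U)).hom ∧
      ∀ y, (E.g.hom.app (op U)).hom y = 0 ↔ ∃ x, (E.f.hom.app (op U)).hom x = y := by
  haveI := hE.mono_f
  haveI : (secA U).Additive := ⟨fun {_ _ _ _} => rfl⟩
  haveI : PreservesFiniteLimits (secA U) := inferInstance
  haveI : PreservesLimit (parallelPair E.g 0) (secA U) := inferInstance
  haveI : Mono ((secA U).map E.f) := inferInstance
  have h := (E.map (secA U)).ab_exact_iff.1 (hE.exact.map_of_mono_of_preservesKernel (secA U) ‹_› ‹_›)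
  refine ⟨(AddCommGrpCat.mono_iff_injective ((secA U).map E.f)).1 inferInstance, fun y => ⟨fun hy => h y hy, ?_⟩⟩
  rintro ⟨x, rfl⟩
  exact ConcreteCategory.congr_hom (congrArg (fun α : E.X₁ ⟶ E.X₃ => α.hom.app (op U)) E.zero) x

omit [Algebra R B] [Module.FaithfullyFlat R B] [LocallyOfFinitePresentation (Spec.map (CommRingCat.ofHom (algebraMap R B)))] in
theorem exists_lift_single {I Q : AbT T} (π : I ⟶ Q) [Epi π] (s : Q.obj.obj (op (Over.mk a))) :
    ∃ (B : Type u) (_ : CommRing B) (_ : Algebra R B) (_ : Module.FaithfullyFlat R B)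
      (_ : LocallyOfFinitePresentation (Spec.map (CommRingCat.ofHom (algebraMap R B)))) (t : I.obj.obj (op (cov a B))),
      (π.hom.app _).hom t = rA Q (covMap a B) s := by
  have hloc := ((Sheaf.isLocallySurjective_iff_epi' AddCommGrpCat.{u + 1} π).2 inferInstance).imageSieve_mem (U := Over.mk a) s
  obtain ⟨J, _, A', φ, hP, hs, hσ⟩ := exists_refine (P := Pfppf) localProp_fppf a _ hloc
  choose t ht using hσ
  letI : ∀ j, Algebra R (A' j) := fun j => (φ j).hom.toAlgebra
  haveI hff := faithfullyFlat_of_cover pfppf_le_flat A' φ hP hs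
  let A : J → CommRingCat.{u} := A'
  have hcomp : ∀ j, Spec.map (CommRingCat.ofHom (Pi.evalRingHom (fun j => (A' j : Type u)) j)) ≫
      Spec.map (CommRingCat.ofHom (algebraMap R (∀ j, A' j))) = Spec.map (φ j) := fun j => by
    rw [← Spec.map_comp]
    exact congrArg Spec.map (CommRingCat.hom_ext (RingHom.ext fun c => rfl))
  have hlfp : LocallyOfFinitePresentation (Spec.map (CommRingCat.ofHom (algebraMap R (∀ j, A' j)))) := by
    have h : Sigma.desc (fun j => Spec.map (φ j)) = sigmaSpec A ≫ Spec.map (CommRingCat.ofHom (algebraMap R (∀ j, A' j))) :=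
      Sigma.hom_ext _ _ fun j => by rw [Sigma.ι_desc, ι_sigmaSpec_assoc]; exact (hcomp j).symm
    rw [← MorphismProperty.cancel_left_of_respectsIso @LocallyOfFinitePresentation (sigmaSpec A), ← h]
    exact IsZariskiLocalAtSource.sigmaDesc fun j => (hP j).2
  refine ⟨∀ j, A' j, inferInstance, inferInstance, hff, hlfp, ?_⟩
  let X : ∀ j, Over T := fun j => Over.mk (Spec.map (φ j) ≫ a)
  let c : ∀ j, X j ⟶ cov a (∀ j, A' j) := fun j => Over.homMk (Spec.map (CommRingCat.ofHom (Pi.evalRingHom (fun j => (A' j : Type u)) j))) (by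
    show _ ≫ (X₀ (R := R) (∀ j, A' j)).hom ≫ a = Spec.map (φ j) ≫ a
    rw [sp_hom, ← hcomp j, Category.assoc]
    rfl)
  have hc : ∀ j, c j ≫ covMap a (∀ j, A' j) = (Over.homMk (Spec.map (φ j)) rfl : X j ⟶ Over.mk a) := fun j =>
    Over.OverMorphism.ext (by
      show _ ≫ (X₀ (R := R) (∀ j, A' j)).hom = Spec.map (φ j)
      rw [sp_hom]
      exact hcomp j)
  have hoi : ∀ j, IsOpenImmersion (c j).left := fun j => by
    show IsOpenImmersion (Spec.map (CommRingCat.ofHom (Pi.evalRingHom (fun j => (A j : Type u)) j)))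
    rw [← ι_sigmaSpec A j]
    infer_instance
  have hmem : Sieve.generate (Presieve.ofArrows (fun j => (X j).left) fun j => (c j).left) ∈
      Scheme.fppfPrecoverage.toGrothendieck (cov a (∀ j, A' j)).left := by
    refine Precoverage.generate_mem_toGrothendieck (J := Scheme.precoverage (Pfppf : MorphismProperty Scheme.{u})) ?_
    rw [Scheme.ofArrows_mem_precoverage_iff]
    refine ⟨fun x => ?_, fun j => ?_⟩
    · obtain ⟨j, q, hq⟩ := PrimeSpectrum.exists_comap_evalRingHom_eq (R := fun j => (A' j : Type u)) x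
      exact ⟨j, q, hq⟩
    · haveI := hoi j
      exact ⟨inferInstance, inferInstance⟩
  obtain ⟨x, hx⟩ := glueA I X c hmem t fun i j W p q hpq => by
    by_cases hij : i = j
    · subst hij
      haveI := hoi i
      have h := congrArg CommaMorphism.left hpq
      simp only [Over.comp_left, cancel_mono] at h
      rw [Over.OverMorphism.ext h]
    · haveI : IsEmpty W.left := ⟨fun w => by
        classical
        let y₁ : PrimeSpectrum (A' i) := p.left w
        let y₂ : PrimeSpectrum (A' j) := q.left w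
        have h : PrimeSpectrum.comap (Pi.evalRingHom (fun j => (A' j : Type u)) i) y₁ =
            PrimeSpectrum.comap (Pi.evalRingHom (fun j => (A' j : Type u)) j) y₂ :=
          congrArg (fun m : W ⟶ cov a (∀ j, A' j) => m.left w) hpq
        have h1 : (Pi.single j 1 : ∀ j, (A' j : Type u)) ∈ (PrimeSpectrum.comap (Pi.evalRingHom (fun j => (A' j : Type u)) i) y₁).asIdeal := by
          show (Pi.single j 1 : ∀ j, (A' j : Type u)) i ∈ y₁.asIdeal
          rw [Pi.single_eq_of_ne hij]
          exact y₁.asIdeal.zero_mem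
        rw [h] at h1
        have h2 : (Pi.single j (1 : A' j) : ∀ j, (A' j : Type u)) j ∈ y₂.asIdeal := h1
        rw [Pi.single_eq_same] at h2
        exact y₂.isPrime.ne_top ((Ideal.eq_top_iff_one _).2 h2)⟩
      exact eq_of_isEmpty I _ _
  refine ⟨x, eq_of_cover Q X c hmem _ _ fun j => ?_⟩
  rw [rA_comp, hc]
  refine Eq.trans ?_ (ht j)
  refine Eq.trans ?_ (congrArg (π.hom.app _).hom (hx j))
  exact (ConcreteCategory.congr_hom (π.hom.naturality (c j).op) x).symm

omit [Algebra R B] [Module.FaithfullyFlat R B] [LocallyOfFinitePresentation (Spec.map (CommRingCat.ofHom (algebraMap R B)))] in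
theorem surjective_sections (E : ShortComplex (AbT T)) (hE : E.ShortExact) (h₁ : Acy E.X₁) :
    Function.Surjective (E.g.hom.app (op (Over.mk a))).hom := by
  intro s
  haveI := hE.epi_g
  obtain ⟨B, _, _, _, _, t, ht⟩ := exists_lift_single a E.g s
  let f' : pr E.X₁ a ⟶ pr E.X₂ a := Functor.whiskerLeft (Over.map a).op E.f.hom
  let g' : pr E.X₂ a ⟶ pr E.X₃ a := Functor.whiskerLeft (Over.map a).op E.g.hom
  have hinj : ∀ U, Function.Injective (f'.app (op U)).hom := fun U => (secA_exact E hE ((Over.map a).obj U)).1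
  have hex : ∀ U y, (g'.app (op U)).hom y = 0 ↔ ∃ x, (f'.app (op U)).hom x = y := fun U => (secA_exact E hE ((Over.map a).obj U)).2
  let t₀ : (pr E.X₂ a).obj (op (pw (X₀ (R := R) B) 0)) :=
    rA E.X₂ ((Over.map a).map (Pi.π (fun _ : Fin 1 => X₀ (R := R) B) 0)) t
  have ht₀ : (g'.app _).hom t₀ = rA E.X₃ ((Over.map a).map (Pi.π (fun _ : Fin 1 => X₀ (R := R) B) 0) ≫ covMap a B) s := by
    rw [← rA_comp, ← ht]
    exact ConcreteCategory.congr_hom (E.g.hom.naturality ((Over.map a).map (Pi.π (fun _ : Fin 1 => X₀ (R := R) B) 0)).op) t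
  obtain ⟨c, hc⟩ := (hex _ (D (X₀ (R := R) B) (pr E.X₂ a) 0 t₀)).1 (by rw [← D_nat, ht₀, D_restr])
  obtain ⟨g, hg⟩ := h₁ R a B 0 c (hinj _ (by rw [← D_nat, hc, D_D, map_zero]))
  obtain ⟨z, hz⟩ := glue_cov E.X₂ a B (t₀ - (f'.app _).hom g) (by rw [map_sub, D_nat, hg, hc, sub_self])
  refine ⟨z, ext_cov E.X₃ a B _ _ ?_⟩
  have h := congrArg (g'.app (op (pw (X₀ (R := R) B) 0))).hom hz
  rw [map_sub, (hex _ _).2 ⟨g, rfl⟩, sub_zero, ht₀] at h
  let σ₁ : X₀ (R := R) B ⟶ pw (X₀ (R := R) B) 0 := Pi.lift fun _ => 𝟙 _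
  have hσ : σ₁ ≫ Pi.π (fun _ : Fin 1 => X₀ (R := R) B) 0 = 𝟙 _ := Pi.lift_π _ _
  have hn : rA E.X₃ ((Over.map a).map (Pi.π (fun _ : Fin 1 => X₀ (R := R) B) 0) ≫ covMap a B) ((E.g.hom.app _).hom z) =
      (E.g.hom.app (op ((Over.map a).obj (pw (X₀ (R := R) B) 0)))).hom (rA E.X₂ ((Over.map a).map (Pi.π (fun _ : Fin 1 => X₀ (R := R) B) 0) ≫ covMap a B) z) :=
    (ConcreteCategory.congr_hom (E.g.hom.naturality _) z).symm
  have h' := congrArg (rA E.X₃ ((Over.map a).map σ₁)) (hn.trans h)
  rw [rA_comp, rA_comp, ← Category.assoc, ← Functor.map_comp, hσ, CategoryTheory.Functor.map_id,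
    Category.id_comp] at h'
  exact h'

omit [Algebra R B] [Module.FaithfullyFlat R B] [LocallyOfFinitePresentation (Spec.map (CommRingCat.ofHom (algebraMap R B)))] in
theorem acy_cokernel (E : ShortComplex (AbT T)) (hE : E.ShortExact) (h₁ : Acy E.X₁) (h₂ : Acy E.X₂) : Acy E.X₃ := by
  intro R a B _ _ _ _ n x hx
  let f' : pr E.X₁ a ⟶ pr E.X₂ a := Functor.whiskerLeft (Over.map a).op E.f.hom
  let g' : pr E.X₂ a ⟶ pr E.X₃ a := Functor.whiskerLeft (Over.map a).op E.g.hom
  have hinj : ∀ U, Function.Injective (f'.app (op U)).hom := fun U => (secA_exact E hE ((Over.map a).obj U)).1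
  have hex : ∀ U y, (g'.app (op U)).hom y = 0 ↔ ∃ x, (f'.app (op U)).hom x = y := fun U => (secA_exact E hE ((Over.map a).obj U)).2
  have hsurj : Function.Surjective (g'.app (op (pw (X₀ (R := R) B) (n + 1)))).hom := fun s => by
    obtain ⟨C, ⟨θ⟩⟩ := exists_pi_iso (R := R) B (n + 1 + 1)
    obtain ⟨y, hy⟩ := surjective_sections ((sp R C).hom ≫ a) E hE h₁ (rA E.X₃ ((Over.map a).map θ.hom) s)
    refine ⟨rA E.X₂ ((Over.map a).map θ.inv) y, ?_⟩
    refine (ConcreteCategory.congr_hom (E.g.hom.naturality ((Over.map a).map θ.inv).op) y).trans ?_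
    refine (congrArg (rA E.X₃ ((Over.map a).map θ.inv)) hy).trans ?_
    rw [rA_comp, ← Functor.map_comp, θ.inv_hom_id, CategoryTheory.Functor.map_id, rA_id]
  obtain ⟨y, rfl⟩ := hsurj x
  obtain ⟨c, hc⟩ := (hex _ (D (X₀ (R := R) B) (pr E.X₂ a) (n + 1) y)).1 (by rw [← D_nat]; exact hx)
  obtain ⟨g, hg⟩ := h₁ R a B (n + 1) c (hinj _ (by rw [← D_nat, hc, D_D, map_zero]))
  obtain ⟨z, hz⟩ := h₂ R a B n (y - (f'.app _).hom g) (by rw [map_sub, D_nat, hg, hc, sub_self])
  refine ⟨(g'.app _).hom z, ?_⟩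
  rw [D_nat, hz, map_sub, (hex _ _).2 ⟨g, rfl⟩, sub_zero]

/-- The presheaf of all families. -/
noncomputable def cofree {C : Type (u + 1)} [Category.{u} C] (Q : Cᵒᵖ ⥤ AddCommGrpCat.{u + 1}) :
    Cᵒᵖ ⥤ AddCommGrpCat.{u + 1} where
  obj U := AddCommGrpCat.of (∀ V : C, (V ⟶ U.unop) → Q.obj (op V))
  map f := AddCommGrpCat.ofHom
    { toFun := fun x V h => x V (h ≫ f.unop)
      map_zero' := rfl
      map_add' := fun _ _ => rfl }
  map_id U := AddCommGrpCat.hom_ext <| AddMonoidHom.ext fun x => funext₂ fun V h =>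
    congrArg (x V) (Category.comp_id h)
  map_comp f g := AddCommGrpCat.hom_ext <| AddMonoidHom.ext fun x => funext₂ fun V h =>
    congrArg (x V) (Category.assoc h _ _).symm

/-- The map to the presheaf of all families. -/
noncomputable def toCofree {C : Type (u + 1)} [Category.{u} C] (Q : Cᵒᵖ ⥤ AddCommGrpCat.{u + 1}) : Q ⟶ cofree Q where
  app U := AddCommGrpCat.ofHom
    { toFun := fun s V h => (Q.map h.op).hom s
      map_zero' := by funext V h; exact map_zero _
      map_add' := fun _ _ => by funext V h; exact map_add _ _ _ }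
  naturality U V f := by
    ext s; funext W h
    exact congrArg (fun t => t.hom s) (Q.map_comp f h.op).symm

omit [Module.FaithfullyFlat R B] [LocallyOfFinitePresentation (Spec.map (CommRingCat.ofHom (algebraMap R B)))] in
theorem ex_cofree (Q : (Over (Spec R))ᵒᵖ ⥤ AddCommGrpCat.{u + 1}) (n : ℕ) : Ex (X₀ (R := R) B) (cofree Q) n := by
  classical
  intro x hx
  let X := X₀ (R := R) B
  let cn : ∀ V : Over (Spec R), Nonempty (V ⟶ X) → (Fin (n + 1) → (V ⟶ X)) → (V ⟶ pw X (n + 1)) := fun V hV e =>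
    Pi.lift (Fin.cases (Classical.choice hV) e)
  refine ⟨fun V h => x V (cn V ⟨h ≫ Pi.π (fun _ : Fin (n + 1) => X) 0⟩ fun k => h ≫ Pi.π (fun _ : Fin (n + 1) => X) k), ?_⟩
  funext V h
  have hV : Nonempty (V ⟶ X) := ⟨h ≫ Pi.π (fun _ : Fin (n + 2) => X) 0⟩
  let σ : V ⟶ pw X (n + 2) := Pi.lift (Fin.cases (Classical.choice hV) fun k => h ≫ Pi.π (fun _ : Fin (n + 2) => X) k)
  have h0 : σ ≫ fc X (0 : Fin (n + 1 + 2)) = h := Pi.hom_ext _ _ fun k => by
    rw [Category.assoc, fc_π, Pi.lift_π, Fin.succAbove_zero]; rfl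
  have hj : ∀ j : Fin (n + 2), σ ≫ fc X j.succ = cn V hV fun k => h ≫ Pi.π (fun _ : Fin (n + 2) => X) (j.succAbove k) :=
    fun j => Pi.hom_ext _ _ fun k => by
      rw [Category.assoc, fc_π, Pi.lift_π, Pi.lift_π]
      refine Fin.cases ?_ (fun k => ?_) k
      · rw [Fin.succ_succAbove_zero]; rfl
      · rw [Fin.succ_succAbove_succ]; rfl
  have hx' := congrFun (congrFun hx V) σ
  rw [D_apply] at hx' ⊢
  have he : ∀ (m : ℕ) (U : (Over (Spec R))ᵒᵖ) (f : Fin m → (cofree Q).obj U) (W : Over (Spec R)) (k : W ⟶ U.unop),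
      (∑ j, f j) W k = ∑ j, f j W k := fun m U f W k => by
    exact (congrFun (Finset.sum_apply W _ _) k).trans (Finset.sum_apply k _ _)
  rw [he] at hx' ⊢
  rw [Fin.sum_univ_succ, Fin.val_zero, pow_zero, one_smul] at hx'
  have hx'' : x V (σ ≫ fc X (0 : Fin (n + 1 + 2))) + ∑ j : Fin (n + 2), (-1 : ℤ) ^ ((j.succ : Fin (n + 1 + 2)) : ℕ) • x V (σ ≫ fc X j.succ) = 0 := hx'
  rw [h0, add_eq_zero_iff_eq_neg, ← Finset.sum_neg_distrib] at hx''
  refine Eq.trans ?_ hx''.symm
  refine Finset.sum_congr rfl fun j _ => ?_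
  show (-1 : ℤ) ^ (j : ℕ) • x V (cn V _ _) = -((-1 : ℤ) ^ ((j.succ : Fin (n + 1 + 2)) : ℕ) • x V (σ ≫ fc X j.succ))
  rw [hj j, Fin.val_succ, pow_succ, mul_neg_one, neg_smul, neg_neg]
  refine congrArg (fun z => _ • x V z) (congrArg (cn V _) (funext fun k => ?_))
  show (h ≫ fc X j) ≫ Pi.π (fun _ : Fin (n + 1) => X) k = _
  exact (Category.assoc _ _ _).trans (congrArg _ (fc_π X j k))

omit [Algebra R B] [Module.FaithfullyFlat R B] [LocallyOfFinitePresentation (Spec.map (CommRingCat.ofHom (algebraMap R B)))] in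
theorem acy_of_retraction (I : AbT T) (ρ : cofree I.obj ⟶ I.obj) (hρ : toCofree I.obj ≫ ρ = 𝟙 _) : Acy I := by
  intro R a B _ _ _ _ n x hx
  let θ : cofree (pr I a) ⟶ (Over.map a).op ⋙ cofree I.obj :=
    { app := fun U => AddCommGrpCat.ofHom
        { toFun := fun x V h => rA I (Over.homMk (𝟙 _) ((Category.id_comp _).trans ((Category.assoc _ _ _).trans (Over.w h))) :
              V ⟶ (Over.map a).obj (Over.mk (h.left ≫ U.unop.hom)))
            (x (Over.mk (h.left ≫ U.unop.hom)) (Over.homMk h.left rfl))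
          map_zero' := by funext V h; exact map_zero _
          map_add' := fun _ _ => by funext V h; exact map_add _ _ _ }
      naturality := fun U U' f => by
        ext y; funext V h
        have key : ∀ (g g' : V.left ⟶ Spec R) (hg : g = g') (w : g ≫ a = V.hom) (w' : g' ≫ a = V.hom)
            (p : Over.mk g ⟶ U.unop) (q : Over.mk g' ⟶ U.unop), p.left = q.left →
              rA I (Over.homMk (𝟙 _) ((Category.id_comp _).trans w) : V ⟶ (Over.map a).obj (Over.mk g)) (y (Over.mk g) p) =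
                rA I (Over.homMk (𝟙 _) ((Category.id_comp _).trans w') : V ⟶ (Over.map a).obj (Over.mk g')) (y (Over.mk g') q) := by
          intro g g' hg w w' p q hpq
          subst hg
          obtain rfl : p = q := Over.OverMorphism.ext hpq
          rfl
        refine key _ _ ?_ ((Category.assoc _ _ _).trans (Over.w h))
          ((Category.assoc _ _ _).trans (Over.w (h ≫ (Over.map a).map f.unop))) _ _ rfl
        show (h : V ⟶ (Over.map a).obj U'.unop).left ≫ U'.unop.hom = _
        rw [← Over.w f.unop, ← Category.assoc]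
        rfl }
  let r : cofree (pr I a) ⟶ pr I a := θ ≫ Functor.whiskerLeft _ ρ
  have hr : toCofree (pr I a) ≫ r = 𝟙 _ := by
    have hi : toCofree (pr I a) ≫ θ = Functor.whiskerLeft (Over.map a).op (toCofree I.obj) := by
      ext U s; funext V h
      show rA I _ (rA I _ s) = rA I h s
      rw [rA_comp]
      exact congrArg (fun w => rA I w s) (Over.OverMorphism.ext (Category.id_comp _))
    show toCofree (pr I a) ≫ θ ≫ _ = _
    rw [← Category.assoc, hi, ← Functor.whiskerLeft_comp, hρ]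
    rfl
  obtain ⟨y, hy⟩ := ex_cofree B (pr I a) n (((toCofree (pr I a)).app _).hom x) (by rw [D_nat, hx, map_zero])
  exact ⟨(r.app _).hom y, by
    rw [D_nat, hy]
    exact ConcreteCategory.congr_hom (congrArg (fun φ => NatTrans.app φ _) hr) x⟩

omit [Algebra R B] [Module.FaithfullyFlat R B] [LocallyOfFinitePresentation (Spec.map (CommRingCat.ofHom (algebraMap R B)))] in
theorem acy_injective (I : AbT T) [Injective I] : Acy I := by
  haveI : Injective I.obj := Injective.injective_of_adjoint (sheafificationAdjunction _ _) I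
  haveI : Mono (toCofree I.obj) := by
    have : ∀ U, Mono ((toCofree I.obj).app U) := fun U => (AddCommGrpCat.mono_iff_injective _).2
      fun s s' hs => by
        have h : (I.obj.map (𝟙 U.unop).op).hom s = (I.obj.map (𝟙 U.unop).op).hom s' := congrFun (congrFun hs U.unop) (𝟙 _)
        rwa [op_id, CategoryTheory.Functor.map_id] at h
    exact NatTrans.mono_of_mono_app _
  exact acy_of_retraction I (Injective.factorThru (𝟙 I.obj) (toCofree I.obj)) (Injective.comp_factorThru _ _)

theorem acy_toAbMod (M : BigSite.Mod Scheme.fppfPrecoverage T) (hM : Adeq.adequateMod Scheme.fppfPrecoverage T M) :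
    Acy ((BigSite.toAbMod Scheme.fppfPrecoverage T).obj M) := by
  intro R a B _ _ _ _ m
  refine CechSingle.ex_of_shifting (X₀ (R := R) B)
    (Pi.π (fun _ : Fin 1 => X₀ (R := R) B) 0 ≫ spMap R (ofBase (A := R) B)) (hom_base_ext R _ _) IsG
    (fun P hP => toShift_injective hP) (fun P hP x hx => descent_zero hP x hx) (fun P hP => ?_) m _
    ⟨(Adeq.toMVF Scheme.fppfPrecoverage a).obj M, good_of_adequateMod_fppf T M hM R a,
      fun C => (rsEquiv M.val (Over.isoMk (Iso.refl _) (by
        show 𝟙 _ ≫ (Spec.map (CommRingCat.ofHom (algebraMap R (C : Type u))) ≫ 𝟙 _) ≫ a = _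
        rw [Category.id_comp, Category.comp_id]; rfl) :
          (Adeq.specOver a).obj (op C) ≅ (Over.map a).obj (sp R C))).trans (evS M.val a C).symm,
      fun C D f x => by
        refine (evS M.val a D).injective ?_
        refine Eq.trans ?_ (evS_mp M.val a f _).symm
        show rs M.val _ (rs M.val ((Over.map a).map (spMap R f)) x) = rs M.val _ (rs M.val _ x)
        rw [rs_comp, rs_comp]
        exact congrArg (fun w => rs M.val w x) (Over.OverMorphism.ext ((Category.id_comp _).trans (Category.comp_id _).symm))⟩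
  obtain ⟨Q, π, hQ, hs, hex⟩ := exists_cokernel (B := B) hP
  exact ⟨Q, π, hQ, hs _, fun n => hs _, fun n y => hex _ y⟩

omit [Algebra R B] [Module.FaithfullyFlat R B] [LocallyOfFinitePresentation (Spec.map (CommRingCat.ofHom (algebraMap R B)))] in
theorem subsingleton_H [IsAffine T] (n : ℕ) : ∀ G : AbT T, Acy G → Subsingleton (Sheaf.H G (n + 1)) := by
  have hT : IsTerminal (Over.mk (𝟙 T)) := Over.mkIdTerminal
  induction n with
  | zero =>
    intro G hG
    let P := Classical.arbitrary (InjectivePresentation G)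
    have hE := P.shortExact_shortComplex
    refine subsingleton_of_forall_eq 0 fun x => ?_
    obtain ⟨y, rfl⟩ := Ext.covariant_sequence_exact₁ _ hE x
      ((Ext.eq_zero_of_injective (I := P.J) _)) (n₀ := 0) rfl
    let e : Over.mk T.isoSpec.inv ≅ Over.mk (𝟙 T) := Over.isoMk T.isoSpec.symm (Category.comp_id _)
    obtain ⟨t, ht⟩ := surjective_sections T.isoSpec.inv P.shortComplex hE hG
      (rA P.shortComplex.X₃ e.hom (Sheaf.H.equiv₀ P.shortComplex.X₃ hT y))
    have hy : y = Sheaf.H.map P.shortComplex.g 0 ((Sheaf.H.equiv₀ P.shortComplex.X₂ hT).symm (rA P.shortComplex.X₂ e.inv t)) := by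
      refine (Sheaf.H.equiv₀ P.shortComplex.X₃ hT).injective ?_
      rw [← Sheaf.H.equiv₀_naturality, AddEquiv.apply_symm_apply]
      refine Eq.symm ((ConcreteCategory.congr_hom (P.shortComplex.g.hom.naturality e.inv.op) t).trans ?_)
      refine (congrArg (rA P.shortComplex.X₃ e.inv) ht).trans ?_
      rw [rA_comp, e.inv_hom_id, rA_id]
    rw [hy, Sheaf.H.map_apply, Ext.comp_assoc_of_second_deg_zero, hE.comp_extClass, Ext.comp_zero]
  | succ n ih =>
    intro G hG
    let P := Classical.arbitrary (InjectivePresentation G)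
    have hE := P.shortExact_shortComplex
    haveI : Injective P.shortComplex.X₂ := P.injective
    refine subsingleton_of_forall_eq 0 fun x => ?_
    obtain ⟨y, rfl⟩ := Ext.covariant_sequence_exact₁ _ hE x
      ((Ext.eq_zero_of_injective (I := P.J) _)) (n₀ := n + 1) rfl
    haveI := ih _ (acy_cokernel _ hE hG (acy_injective P.shortComplex.X₂))
    rw [Subsingleton.elim (α := Sheaf.H P.shortComplex.X₃ (n + 1)) y 0, Ext.zero_comp]

theorem subsingleton_HU (S : Scheme.{u}) (M : BigSite.Mod Scheme.fppfPrecoverage S)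
    (hM : Adeq.adequateMod Scheme.fppfPrecoverage S M) (U : Over S) [IsAffine U.left] (q : ℕ) (hq : 0 < q) :
    Subsingleton (BigSite.HU Scheme.fppfPrecoverage ((BigSite.toAbMod Scheme.fppfPrecoverage S).obj M) q U) := by
  obtain ⟨n, rfl⟩ : ∃ m, q = m + 1 := ⟨q - 1, by omega⟩
  refine subsingleton_H n _ fun R a B _ _ _ _ m => ?_
  let a' : Spec R ⟶ S := a ≫ U.hom
  refine CechSingle.ex_of_shifting (X₀ (R := R) B)
    (Pi.π (fun _ : Fin 1 => X₀ (R := R) B) 0 ≫ spMap R (ofBase (A := R) B)) (hom_base_ext R _ _) IsG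
    (fun P hP => toShift_injective hP) (fun P hP x hx => descent_zero hP x hx) (fun P hP => ?_) m _
    ⟨(Adeq.toMVF Scheme.fppfPrecoverage a').obj M, good_of_adequateMod_fppf S M hM R a',
      fun C => (rsEquiv M.val (Over.isoMk (Iso.refl _) (by
        show 𝟙 _ ≫ ((Spec.map (CommRingCat.ofHom (algebraMap R (C : Type u))) ≫ 𝟙 _) ≫ a) ≫ U.hom = _
        rw [Category.id_comp, Category.comp_id, Category.assoc]; rfl) :
          (Adeq.specOver a').obj (op C) ≅ (Over.map U.hom).obj ((Over.map a).obj (sp R C)))).trans (evS M.val a' C).symm,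
      fun C D f x => by
        refine (evS M.val a' D).injective ?_
        refine Eq.trans ?_ (evS_mp M.val a' f _).symm
        show rs M.val _ (rs M.val ((Over.map U.hom).map ((Over.map a).map (spMap R f))) x) = rs M.val _ (rs M.val _ x)
        rw [rs_comp, rs_comp]
        exact congrArg (fun w => rs M.val w x) (Over.OverMorphism.ext ((Category.id_comp _).trans (Category.comp_id _).symm))⟩
  obtain ⟨Q, π, hQ, hs, hex⟩ := exists_cokernel (B := B) hP
  exact ⟨Q, π, hQ, hs _, fun n => hs _, fun n y => hex _ y⟩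

end Groth.Agent.Adeq2Lib.AffVan
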