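import Mathlib.CategoryTheory.Sites.SheafCohomology.Cech
import Mathlib.Algebra.Category.Grp.Abelian
import Mathlib.Algebra.Category.Grp.Limits
import Mathlib.Algebra.Homology.ShortComplex.Ab
import Mathlib.CategoryTheory.Limits.Shapes.BinaryProducts
import Mathlib.CategoryTheory.Limits.Shapes.ConcreteCategory
import Mathlib.Algebra.Homology.ShortComplex.HomologicalComplex

/-!
# The Cech complex of a single object: exactness by dimension shifting
-/

set_option autoImplicit false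

universe u

open CategoryTheory Limits Opposite

namespace Groth.Agent.Adeq2Lib.CechSingle

variable {C : Type (u + 1)} [Category.{u} C] [HasFiniteProducts C] (X : C)

/-- The powers of the object. -/
noncomputable abbrev pw (n : ℕ) : C := ∏ᶜ fun _ : Fin (n + 1) => X

/-- The face maps between powers. -/
noncomputable def fc {n : ℕ} (j : Fin (n + 2)) : pw X (n + 1) ⟶ pw X n :=
  Pi.lift fun k => Pi.π (fun _ : Fin (n + 2) => X) (j.succAbove k)

theorem fc_π {n : ℕ} (j : Fin (n + 2)) (k : Fin (n + 1)) :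
    fc X j ≫ Pi.π (fun _ : Fin (n + 1) => X) k = Pi.π (fun _ : Fin (n + 2) => X) (j.succAbove k) :=
  Pi.lift_π _ k

variable (P : Cᵒᵖ ⥤ AddCommGrpCat.{u + 1})

/-- The complex. -/
noncomputable abbrev cx : CochainComplex AddCommGrpCat.{u + 1} ℕ :=
  (cechComplexFunctor (fun _ : PUnit.{u + 2} => X)).obj P

/-- The alternating sum of the faces. -/
noncomputable def D (n : ℕ) : P.obj (op (pw X n)) →+ P.obj (op (pw X (n + 1))) :=
  ∑ j : Fin (n + 2), (-1 : ℤ) ^ (j : ℕ) • (P.map (fc X j).op).hom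

theorem D_apply (n : ℕ) (x : P.obj (op (pw X n))) :
    D X P n x = ∑ j : Fin (n + 2), (-1 : ℤ) ^ (j : ℕ) • (P.map (fc X j).op).hom x := by
  simp [D, AddMonoidHom.finset_sum_apply]

/-- Cochains are sections on powers. -/
noncomputable def cv (n : ℕ) : (cx X P).X n ≃+ P.obj (op (pw X n)) :=
  AddEquiv.ofBijective (Pi.π (fun _ : Fin (n + 1) → PUnit.{u + 2} => P.obj (op (pw X n))) fun _ => PUnit.unit).hom
    ⟨fun x y h => Concrete.limit_ext _ x y fun ⟨i⟩ => by
      obtain rfl : i = fun _ => PUnit.unit := funext fun _ => rfl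
      exact h,
    fun y => ⟨(Concrete.productEquiv fun _ : Fin (n + 1) → PUnit.{u + 2} => P.obj (op (pw X n))).symm fun _ => y,
      Concrete.productEquiv_symm_apply_π _ _ _⟩⟩

theorem cv_d (n : ℕ) (x : (cx X P).X n) : cv X P (n + 1) (((cx X P).d n (n + 1)).hom x) = D X P n (cv X P n x) := by
  have e : (cx X P).d n (n + 1) =
      AlgebraicTopology.AlternatingCofaceMapComplex.objD
        ((FormalCoproduct.cosimplicialObjectFunctor (FormalCoproduct.mk _ fun _ : PUnit.{u + 2} => X).cech).obj P) n := by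
    simp [cx, cechComplexFunctor, FormalCoproduct.cochainComplexFunctor,
      AlgebraicTopology.alternatingCofaceMapComplex,
      AlgebraicTopology.AlternatingCofaceMapComplex.obj]
  rw [e, AlgebraicTopology.AlternatingCofaceMapComplex.objD, D_apply]
  refine (congrArg (cv X P (n + 1)) (map_sum (AddMonoidHom.mk' (fun g : (cx X P).X n ⟶ (cx X P).X (n + 1) => g.hom x)
    fun _ _ => rfl) _ Finset.univ)).trans ?_
  refine (map_sum _ _ _).trans ?_
  refine Finset.sum_congr rfl fun j _ => ?_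
  refine (map_zsmul _ _ _).trans ?_
  congr 1
  exact ConcreteCategory.congr_hom (Pi.lift_π (fun i : Fin (n + 2) → PUnit.{u + 2} =>
    (Pi.π (fun _ : Fin (n + 1) → PUnit.{u + 2} => P.obj (op (pw X n))) (i ∘ j.succAbove)) ≫
      P.map (fc X j).op) fun _ => PUnit.unit) x

theorem D_D (n : ℕ) (x : P.obj (op (pw X n))) : D X P (n + 1) (D X P n x) = 0 := by
  obtain ⟨y, rfl⟩ := (cv X P n).surjective x
  rw [← cv_d, ← cv_d]
  have h := ConcreteCategory.congr_hom ((cx X P).d_comp_d n (n + 1) (n + 1 + 1)) y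
  exact (congrArg (cv X P (n + 1 + 1)) h).trans (map_zero _)

variable {P}

theorem D_nat {P' : Cᵒᵖ ⥤ AddCommGrpCat.{u + 1}} (φ : P ⟶ P') (n : ℕ) (x : P.obj (op (pw X n))) :
    D X P' n ((φ.app _).hom x) = (φ.app _).hom (D X P n x) := by
  rw [D_apply, D_apply, map_sum]
  refine Finset.sum_congr rfl fun j _ => ?_
  rw [map_zsmul]
  exact congrArg _ (ConcreteCategory.congr_hom (φ.naturality (fc X j).op) x).symm

variable (P)

/-- Exactness in degree `n + 1` in terms of sections. -/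
def Ex (n : ℕ) : Prop :=
  ∀ x : P.obj (op (pw X (n + 1))), D X P (n + 1) x = 0 → ∃ y, D X P n y = x

theorem exactAt_of_ex (n : ℕ) (h : Ex X P n) : (cx X P).ExactAt (n + 1) := by
  rw [HomologicalComplex.exactAt_iff' _ n (n + 1) (n + 2) (by simp) (by simp), ShortComplex.ab_exact_iff]
  intro x hx
  obtain ⟨y, hy⟩ := h (cv X P (n + 1) x) (by rw [← cv_d]; exact (congrArg _ hx).trans (map_zero _))
  obtain ⟨y, rfl⟩ := (cv X P n).surjective y
  exact ⟨y, (cv X P (n + 1)).injective ((cv_d X P n y).trans hy)⟩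

/-- Product with the object. -/
noncomputable def shiftF : C ⥤ C where
  obj T := T ⨯ X
  map f := prod.map f (𝟙 X)

/-- The shifted presheaf. -/
noncomputable abbrev shift : Cᵒᵖ ⥤ AddCommGrpCat.{u + 1} := (shiftF X).op ⋙ P

/-- The map to the shifted presheaf. -/
noncomputable def toShift : P ⟶ shift X P where
  app T := P.map (prod.fst : T.unop ⨯ X ⟶ T.unop).op
  naturality T T' f := by
    show P.map f ≫ P.map _ = P.map _ ≫ P.map ((shiftF X).map f.unop).op
    rw [← P.map_comp, ← P.map_comp]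
    congr 1
    exact Quiver.Hom.unop_inj (prod.map_fst _ _).symm

/-- The extra degeneracy. -/
noncomputable def sg (n : ℕ) : pw X n ⨯ X ⟶ pw X (n + 1) ⨯ X :=
  prod.lift (Pi.lift (Fin.cases prod.snd fun k => prod.fst ≫ Pi.π (fun _ : Fin (n + 1) => X) k)) prod.snd

theorem sg_π_zero (n : ℕ) : sg X n ≫ prod.fst ≫ Pi.π (fun _ : Fin (n + 2) => X) 0 = prod.snd := by
  rw [sg, prod.lift_fst_assoc, Pi.lift_π]; rfl

theorem sg_π_succ (n : ℕ) (k : Fin (n + 1)) :
    sg X n ≫ prod.fst ≫ Pi.π (fun _ : Fin (n + 2) => X) k.succ = prod.fst ≫ Pi.π (fun _ : Fin (n + 1) => X) k := by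
  rw [sg, prod.lift_fst_assoc, Pi.lift_π]; rfl

theorem sg_snd (n : ℕ) : sg X n ≫ prod.snd = prod.snd := prod.lift_snd _ _

theorem sg_face_zero (n : ℕ) : sg X n ≫ prod.map (fc X (0 : Fin (n + 2))) (𝟙 X) = 𝟙 _ := by
  refine prod.hom_ext (Pi.hom_ext _ _ fun k => ?_) ?_
  · simp only [Category.assoc, prod.map_fst_assoc, fc_π, Category.id_comp, Fin.succAbove_zero]
    exact sg_π_succ X n k
  · simp only [Category.assoc, prod.map_snd, Category.comp_id, Category.id_comp]
    exact sg_snd X n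

theorem sg_face_succ (n : ℕ) (j : Fin (n + 2)) :
    sg X (n + 1) ≫ prod.map (fc X j.succ) (𝟙 X) = prod.map (fc X j) (𝟙 X) ≫ sg X n := by
  refine prod.hom_ext (Pi.hom_ext _ _ fun k => ?_) ?_
  · simp only [Category.assoc, prod.map_fst_assoc, fc_π]
    refine Fin.cases ?_ (fun k => ?_) k
    · rw [Fin.succ_succAbove_zero]
      refine (sg_π_zero X (n + 1)).trans ?_
      rw [sg_π_zero]
      exact ((prod.map_snd _ _).trans (Category.comp_id _)).symm
    · rw [Fin.succ_succAbove_succ]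
      refine (sg_π_succ X (n + 1) _).trans ?_
      rw [sg_π_succ]
      exact ((prod.map_fst_assoc _ _ _).trans (congrArg _ (fc_π X j k))).symm
  · simp only [Category.assoc, prod.map_snd, Category.comp_id]
    refine (sg_snd X (n + 1)).trans ?_
    rw [sg_snd]
    exact ((prod.map_snd _ _).trans (Category.comp_id _)).symm

/-- The contracting map. -/
noncomputable def ee (n : ℕ) : (shift X P).obj (op (pw X (n + 1))) →+ (shift X P).obj (op (pw X n)) :=
  (P.map (sg X n).op).hom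

theorem ee_zero (n : ℕ) (x : (shift X P).obj (op (pw X n))) :
    ee X P n (((shift X P).map (fc X (0 : Fin (n + 2))).op).hom x) = x := by
  show (P.map (prod.map (fc X (0 : Fin (n + 2))) (𝟙 X)).op ≫ P.map (sg X n).op).hom x = x
  rw [← P.map_comp, ← op_comp, sg_face_zero, op_id, P.map_id]
  rfl

theorem ee_succ (n : ℕ) (j : Fin (n + 2)) (x : (shift X P).obj (op (pw X (n + 1)))) :
    ee X P (n + 1) (((shift X P).map (fc X j.succ).op).hom x) = ((shift X P).map (fc X j).op).hom (ee X P n x) := by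
  show (P.map (prod.map (fc X j.succ) (𝟙 X)).op ≫ P.map (sg X (n + 1)).op).hom x =
    (P.map (sg X n).op ≫ P.map (prod.map (fc X j) (𝟙 X)).op).hom x
  rw [← P.map_comp, ← P.map_comp, ← op_comp, ← op_comp, sg_face_succ]

theorem ex_shift (n : ℕ) : Ex X (shift X P) n := by
  intro x hx
  refine ⟨ee X P n x, ?_⟩
  have h := congrArg (ee X P (n + 1)) hx
  rw [map_zero, D_apply, map_sum, Fin.sum_univ_succ, map_zsmul, Fin.val_zero, pow_zero, one_smul, ee_zero,
    add_eq_zero_iff_eq_neg, ← Finset.sum_neg_distrib] at h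
  refine Eq.trans ?_ h.symm
  rw [D_apply]
  refine Finset.sum_congr rfl fun j _ => ?_
  rw [map_zsmul, Fin.val_succ, pow_succ, mul_neg_one, neg_smul, neg_neg, ee_succ]

theorem ex_of_shifting {T₀ : C} (t : pw X 0 ⟶ T₀) (ht : fc X (0 : Fin 2) ≫ t = fc X (1 : Fin 2) ≫ t)
    (G : (Cᵒᵖ ⥤ AddCommGrpCat.{u + 1}) → Prop)
    (hinj : ∀ P, G P → ∀ n, Function.Injective ((toShift X P).app (op (pw X n))).hom)
    (hzero : ∀ P, G P → ∀ x : P.obj (op (pw X 0)), D X P 0 x = 0 → ∃ z, (P.map t.op).hom z = x)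
    (hcok : ∀ P, G P → ∃ (Q : Cᵒᵖ ⥤ AddCommGrpCat.{u + 1}) (π : shift X P ⟶ Q), G Q ∧
      Function.Surjective (π.app (op T₀)).hom ∧ (∀ n, Function.Surjective (π.app (op (pw X n))).hom) ∧
      ∀ n y, (π.app (op (pw X n))).hom y = 0 ↔ ∃ w, ((toShift X P).app (op (pw X n))).hom w = y) :
    ∀ (n : ℕ) (P : Cᵒᵖ ⥤ AddCommGrpCat.{u + 1}), G P → Ex X P n := by
  intro n
  induction n with
  | zero =>
    intro P hP x hx
    obtain ⟨Q, π, hQ, hs₀, hs, hex⟩ := hcok P hP
    obtain ⟨y, hy⟩ := ex_shift X P 0 (((toShift X P).app _).hom x) (by rw [D_nat, hx, map_zero])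
    have hq : D X Q 0 ((π.app _).hom y) = 0 := by rw [D_nat, hy]; exact (hex 1 _).2 ⟨x, rfl⟩
    obtain ⟨z, hz⟩ := hzero Q hQ _ hq
    obtain ⟨z', rfl⟩ := hs₀ z
    obtain ⟨w, hw⟩ := (hex 0 (y - ((shift X P).map t.op).hom z')).1 (by
      rw [map_sub, ← hz, sub_eq_zero]
      exact (ConcreteCategory.congr_hom (π.naturality t.op) z').symm)
    refine ⟨w, hinj P hP 1 ?_⟩
    rw [← D_nat, hw, map_sub, hy, sub_eq_self, D_apply, Fin.sum_univ_two, Fin.val_zero, pow_zero, one_smul,
      Fin.val_one, pow_one, neg_smul, one_smul, add_neg_eq_zero]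
    show ((shift X P).map t.op ≫ (shift X P).map (fc X 0).op).hom z' = ((shift X P).map t.op ≫ (shift X P).map (fc X 1).op).hom z'
    rw [← Functor.map_comp, ← Functor.map_comp, ← op_comp, ← op_comp, ht]
  | succ n ih =>
    intro P hP x hx
    obtain ⟨Q, π, hQ, hs₀, hs, hex⟩ := hcok P hP
    obtain ⟨y, hy⟩ := ex_shift X P (n + 1) (((toShift X P).app _).hom x) (by rw [D_nat, hx, map_zero])
    have hq : D X Q (n + 1) ((π.app _).hom y) = 0 := by rw [D_nat, hy]; exact (hex _ _).2 ⟨x, rfl⟩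
    obtain ⟨z, hz⟩ := ih Q hQ _ hq
    obtain ⟨z', rfl⟩ := hs n z
    obtain ⟨w, hw⟩ := (hex (n + 1) (y - D X (shift X P) n z')).1 (by
      rw [map_sub, ← hz, D_nat, sub_self])
    exact ⟨w, hinj P hP (n + 1 + 1) (by rw [← D_nat, hw, map_sub, hy, D_D, sub_zero])⟩

end Groth.Agent.Adeq2Lib.CechSingle
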