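import Groth.Agent.Adeq2Lib.Pull
import Groth.Agent.Adeq2Lib.CechSingle

/-!
# Exactness of the Cech complex of a faithfully flat affine covering
-/

set_option autoImplicit false

universe u

open CategoryTheory Limits AlgebraicGeometry Opposite TensorProduct

namespace Groth.Agent.Adeq2Lib.CechAffine

open Groth.Agent.AdeqFound

variable (R : CommRingCat.{u})

/-- The object of an algebra. -/
noncomputable abbrev sp (C : Adeq.Alg R) : Over (Spec R) := (Adeq.specOver (𝟙 (Spec R))).obj (op C)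

/-- The morphism of a map of algebras. -/
noncomputable abbrev spMap {C D : Adeq.Alg R} (f : C ⟶ D) : sp R D ⟶ sp R C := (Adeq.specOver (𝟙 (Spec R))).map f.op

theorem sp_hom (C : Adeq.Alg R) : (sp R C).hom = Spec.map (CommRingCat.ofHom (algebraMap R (C : Type u))) :=
  Category.comp_id _

theorem hom_base_ext {T : Over (Spec R)} (f g : T ⟶ sp R (Adeq.algOf R R)) : f = g := by
  have h : ∀ k : T ⟶ sp R (Adeq.algOf R R), k.left = T.hom := fun k => by
    refine Eq.trans ?_ (Over.w k)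
    refine (Category.comp_id _).symm.trans (congrArg (fun w => k.left ≫ w) ?_)
    rw [sp_hom]
    exact (Spec.map_id R).symm
  exact Over.OverMorphism.ext ((h f).trans (h g).symm)

variable {R} (B : Type u) [CommRing B] [Algebra R B]

/-- The covering object. -/
noncomputable abbrev X₀ : Over (Spec R) := sp R (Adeq.algOf R B)

/-- The base change of an algebra. -/
noncomputable abbrev bX (C : Adeq.Alg R) : Adeq.Alg R := rB (A := R) (bC B C)

/-- The left inclusion. -/
noncomputable def inl (C : Adeq.Alg R) : Adeq.algOf R B ⟶ bX B C :=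
  let g : B →+* B ⊗[R] (C : Type u) := algebraMap B (B ⊗[R] (C : Type u))
  letI : Algebra R (B ⊗[R] (C : Type u)) := ((algebraMap B (B ⊗[R] (C : Type u))).comp (algebraMap R B)).toAlgebra
  CommAlgCat.ofHom { g with commutes' := fun _ => rfl }

/-- The comparison with the product. -/
noncomputable def κ (C : Adeq.Alg R) : sp R (bX B C) ⟶ sp R C ⨯ X₀ B :=
  prod.lift (spMap R (Adeq.Alg.unit R B C)) (spMap R (inl B C))

instance isIso_κ (C : Adeq.Alg R) : IsIso (κ B C) := by
  have hp := isPullback_tensor (R := R) B C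
  have hw : (prod.snd : sp R C ⨯ X₀ B ⟶ X₀ B).left ≫ Spec.map (CommRingCat.ofHom (algebraMap R B)) =
      (prod.fst : sp R C ⨯ X₀ B ⟶ sp R C).left ≫ Spec.map (CommRingCat.ofHom (algebraMap R (C : Type u))) := by
    have h1 := Over.w (prod.snd : sp R C ⨯ X₀ B ⟶ X₀ B)
    have h2 := Over.w (prod.fst : sp R C ⨯ X₀ B ⟶ sp R C)
    rw [sp_hom] at h1 h2
    exact h1.trans h2.symm
  let g : sp R C ⨯ X₀ B ⟶ sp R (bX B C) := Over.homMk (hp.lift _ _ hw) (by
    rw [sp_hom]
    refine Eq.trans ?_ (Over.w (prod.fst : sp R C ⨯ X₀ B ⟶ sp R C))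
    rw [sp_hom]
    refine Eq.trans ?_ (congrArg (fun w => w ≫ Spec.map (CommRingCat.ofHom (algebraMap R (C : Type u)))) (hp.lift_snd _ _ hw))
    refine (congrArg (fun w => hp.lift _ _ hw ≫ w) ?_).trans (Category.assoc _ _ _).symm
    rw [← Spec.map_comp]
    exact congrArg Spec.map (CommRingCat.hom_ext (RingHom.ext fun c => Eq.symm (@AlgHom.commutes _ _ _ _ _ _ _ (_) (Adeq.Alg.unit R B C).hom c))))
  refine ⟨g, ?_, prod.hom_ext ?_ ?_⟩
  · refine Over.OverMorphism.ext (hp.hom_ext ?_ ?_)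
    · refine ((Category.assoc _ _ _).trans (congrArg (fun w => (κ B C).left ≫ w) (hp.lift_fst _ _ hw))).trans ?_
      exact (congrArg CommaMorphism.left (prod.lift_snd (spMap R (Adeq.Alg.unit R B C)) (spMap R (inl B C)))).trans
        (Category.id_comp _).symm
    · refine ((Category.assoc _ _ _).trans (congrArg (fun w => (κ B C).left ≫ w) (hp.lift_snd _ _ hw))).trans ?_
      exact (congrArg CommaMorphism.left (prod.lift_fst (spMap R (Adeq.Alg.unit R B C)) (spMap R (inl B C)))).trans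
        (Category.id_comp _).symm
  · rw [Category.assoc, κ, prod.lift_fst, Category.id_comp]
    exact Over.OverMorphism.ext (hp.lift_snd _ _ hw)
  · rw [Category.assoc, κ, prod.lift_snd, Category.id_comp]
    exact Over.OverMorphism.ext (hp.lift_fst _ _ hw)

theorem κ_fst (C : Adeq.Alg R) : κ B C ≫ prod.fst = spMap R (Adeq.Alg.unit R B C) := prod.lift_fst _ _

theorem κ_nat {C D : Adeq.Alg R} (f : C ⟶ D) :
    κ B D ≫ prod.map (spMap R f) (𝟙 (X₀ B)) =
      spMap R ((Adeq.Alg.restr R B).map ((Adeq.Alg.baseChange R B).map f)) ≫ κ B C := by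
  refine prod.hom_ext ?_ ?_
  · rw [Category.assoc, Category.assoc, prod.map_fst, κ, κ, prod.lift_fst_assoc, prod.lift_fst, ← Functor.map_comp,
      ← Functor.map_comp, ← op_comp, ← op_comp]
    exact congrArg (fun w => spMap R w) (CommAlgCat.hom_ext (DFunLike.ext _ _ fun b => rfl))
  · rw [Category.assoc, Category.assoc, prod.map_snd, Category.comp_id, κ, κ, prod.lift_snd, prod.lift_snd,
      ← Functor.map_comp, ← op_comp]
    refine congrArg (fun w => spMap R w) (CommAlgCat.hom_ext (DFunLike.ext _ _ fun (b : B) => ?_))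
    show algebraMap B (bC B D : Type u) b = ((Adeq.Alg.baseChange R B).map f).hom (algebraMap B (bC B C : Type u) b)
    exact (((Adeq.Alg.baseChange R B).map f).hom.commutes b).symm

theorem exists_pi_iso : ∀ n : ℕ, ∃ C : Adeq.Alg R, Nonempty (sp R C ≅ ∏ᶜ fun _ : Fin n => X₀ (R := R) B)
  | 0 => ⟨Adeq.algOf R R, ⟨{
      hom := Pi.lift fun k => k.elim0
      inv := Over.homMk (∏ᶜ fun _ : Fin 0 => X₀ (R := R) B).hom (by
        rw [sp_hom]
        exact (congrArg (fun w => _ ≫ w) (Spec.map_id R)).trans (Category.comp_id _))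
      hom_inv_id := hom_base_ext R _ _
      inv_hom_id := Pi.hom_ext _ _ fun k => k.elim0 }⟩⟩
  | n + 1 => by
    obtain ⟨C, ⟨e⟩⟩ := exists_pi_iso n
    refine ⟨bX B C, ⟨asIso (κ B C) ≪≫ prod.mapIso e (Iso.refl _) ≪≫
      { hom := Pi.lift (Fin.cases prod.snd fun k => prod.fst ≫ Pi.π (fun _ : Fin n => X₀ (R := R) B) k)
        inv := prod.lift (Pi.lift fun k => Pi.π (fun _ : Fin (n + 1) => X₀ (R := R) B) k.succ)
          (Pi.π (fun _ : Fin (n + 1) => X₀ (R := R) B) 0)
        hom_inv_id := ?_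
        inv_hom_id := ?_ }⟩⟩
    · refine prod.hom_ext (Pi.hom_ext _ _ fun k => ?_) ?_
      · rw [Category.assoc (Pi.lift _), prod.lift_fst, Category.id_comp, Category.assoc, Pi.lift_π, Pi.lift_π]
        rfl
      · rw [Category.assoc, prod.lift_snd, Category.id_comp, Pi.lift_π]
        rfl
    · refine Pi.hom_ext _ _ fun k => ?_
      rw [Category.assoc, Pi.lift_π, Category.id_comp]
      refine Fin.cases ?_ (fun k => ?_) k
      · exact prod.lift_snd _ _
      · show prod.lift _ _ ≫ prod.fst ≫ _ = _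
        rw [prod.lift_fst_assoc, Pi.lift_π]

/-- Presheaves given on affine objects by a good functor. -/
def IsG (P : (Over (Spec R))ᵒᵖ ⥤ AddCommGrpCat.{u + 1}) : Prop :=
  ∃ F : Adeq.MVF R, Good F ∧ ∃ e : ∀ C : Adeq.Alg R, P.obj (op (sp R C)) ≃+ F.obj (Adeq.pt C),
    ∀ (C D : Adeq.Alg R) (f : C ⟶ D) (x : P.obj (op (sp R C))), e D ((P.map (spMap R f).op).hom x) = mp F f (e C x)

variable {B} [Module.FaithfullyFlat R B] {P : (Over (Spec R))ᵒᵖ ⥤ AddCommGrpCat.{u + 1}}

theorem mp_unit_injective {F : Adeq.MVF R} (hF : Good F) (C : Adeq.Alg R) :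
    Function.Injective (mp F (Adeq.Alg.unit R B C)) := by
  obtain ⟨M, N, φ, ι, h⟩ := adequate_iff.1 (good_iff.1 hF)
  refine (injective_iff_map_eq_zero _).2 fun x hx => (h C).1 ?_
  rw [map_zero]
  have h2 := congrArg (ev (bX B C)) ((nat_ap ι (Adeq.Alg.unit R B C) x).symm.trans ((congrArg (ap ι (bX B C)) hx).trans (map_zero _)))
  rw [ev_mp, map_zero] at h2
  refine (ev C).injective ?_
  rw [map_zero]
  apply Module.FaithfullyFlat.tensorProduct_mk_injective (A := R) (B := B) ((C : Type u) ⊗[R] M)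
  simp only [TensorProduct.mk_apply, TensorProduct.tmul_zero]
  have key : ∀ (D : Adeq.Alg R) (g : C ⟶ D) (j : ↑D → B ⊗[R] (C : Type u)),
      (∀ d d', j (d + d') = j d + j d') → (∀ (r : R) d, j (r • d) = r • j d) →
      (∀ c : ↑C, j (g.hom c) = (1 : B) ⊗ₜ[R] c) → ∀ z : (C : Type u) ⊗[R] M,
      g.hom.toLinearMap.rTensor M z = 0 → (1 : B) ⊗ₜ[R] z = 0 := by
    intro D g j hadd hsmul hj z hz
    let j' : (D : Type u) →ₗ[R] B ⊗[R] (C : Type u) := { toFun := j, map_add' := hadd, map_smul' := hsmul }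
    have h' : j'.comp g.hom.toLinearMap =
        (Algebra.TensorProduct.includeRight : (C : Type u) →ₐ[R] B ⊗[R] (C : Type u)).toLinearMap := LinearMap.ext hj
    have h3 := (congrArg (fun w => w.rTensor M z) h').symm.trans
      ((LinearMap.rTensor_comp_apply M j' g.hom.toLinearMap z).trans ((congrArg (j'.rTensor M) hz).trans (map_zero _)))
    refine Eq.trans ?_ ((congrArg (TensorProduct.assoc R B (C : Type u) M) h3).trans (map_zero _))
    clear hz h3
    induction z using TensorProduct.induction_on with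
    | zero => simp
    | tmul c m => rfl
    | add a b ha hb => simp only [TensorProduct.tmul_add, map_add, ha, hb]
  refine key (bX B C) (Adeq.Alg.unit R B C) (fun d => d) (fun _ _ => rfl) (fun r d => ?_) (fun _ => rfl) _ h2
  exact (Algebra.smul_def (A := B ⊗[R] (C : Type u)) r d).symm

theorem map_comp_apply {T T' T'' : Over (Spec R)} (f : T'' ⟶ T') (g : T' ⟶ T) (x : P.obj (op T)) :
    (P.map f.op).hom ((P.map g.op).hom x) = (P.map (f ≫ g).op).hom x := by
  rw [op_comp, P.map_comp]; rfl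

theorem map_iso_injective {T T' : Over (Spec R)} (g : T' ⟶ T) [IsIso g] : Function.Injective (P.map g.op).hom := fun a b h => by
  have h2 := congrArg (P.map (inv g).op).hom h
  rw [map_comp_apply, map_comp_apply, IsIso.inv_hom_id, op_id, P.map_id] at h2
  exact h2

open CechSingle in
theorem toShift_injective (hP : IsG P) (n : ℕ) :
    Function.Injective ((toShift (X₀ (R := R) B) P).app (op (pw (X₀ (R := R) B) n))).hom := by
  obtain ⟨F, hF, e, he⟩ := hP
  obtain ⟨C, ⟨θ⟩⟩ := exists_pi_iso (R := R) B (n + 1)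
  intro x y h
  refine map_iso_injective θ.hom ((e C).injective (mp_unit_injective (B := B) hF C ?_))
  rw [← he, ← he, map_comp_apply, map_comp_apply]
  refine congrArg (e (bX B C)) ?_
  have h2 := congrArg (P.map (κ B C ≫ prod.map θ.hom (𝟙 _)).op).hom h
  have k : spMap R (Adeq.Alg.unit R B C) ≫ θ.hom = (κ B C ≫ prod.map θ.hom (𝟙 _)) ≫ prod.fst := by
    rw [Category.assoc, prod.map_fst, ← Category.assoc, κ_fst]
  rw [k]
  exact ((map_comp_apply _ _ x).symm.trans h2).trans (map_comp_apply _ _ y)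

open CechSingle in
theorem descent_zero (hP : IsG P) (x : P.obj (op (pw (X₀ (R := R) B) 0))) (hx : D (X₀ (R := R) B) P 0 x = 0) :
    ∃ z, (P.map (Pi.π (fun _ : Fin 1 => X₀ (R := R) B) 0 ≫ spMap R (ofBase (A := R) B)).op).hom z = x := by
  obtain ⟨F, hF, e, he⟩ := hP
  let σ₁ : X₀ (R := R) B ⟶ pw (X₀ (R := R) B) 0 := Pi.lift fun _ => 𝟙 _
  have hσ : σ₁ ≫ Pi.π (fun _ : Fin 1 => X₀ (R := R) B) 0 = 𝟙 _ := Pi.lift_π _ _
  haveI : IsIso σ₁ := ⟨Pi.π (fun _ : Fin 1 => X₀ (R := R) B) 0, hσ, Pi.hom_ext _ _ fun k => by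
    obtain rfl : k = 0 := Fin.eq_zero k
    rw [Category.assoc, hσ, Category.comp_id, Category.id_comp]⟩
  let y := e _ ((P.map σ₁.op).hom x)
  let l : Adeq.algOf R B ⟶ Adeq.algOf R (B ⊗[R] B) := CommAlgCat.ofHom Algebra.TensorProduct.includeLeft
  let r : Adeq.algOf R B ⟶ Adeq.algOf R (B ⊗[R] B) := CommAlgCat.ofHom Algebra.TensorProduct.includeRight
  have hy : mp F l y = mp F r y := by
    rw [← he, ← he, map_comp_apply, map_comp_apply]
    refine congrArg (e _) ?_
    let m : sp R (Adeq.algOf R (B ⊗[R] B)) ⟶ pw (X₀ (R := R) B) 1 := Pi.lift ![spMap R l, spMap R r]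
    have h := congrArg (P.map m.op).hom hx
    rw [D_apply, Fin.sum_univ_two, Fin.val_zero, pow_zero, one_smul, Fin.val_one, pow_one, neg_smul, one_smul, map_add,
      map_neg, map_zero, add_neg_eq_zero, map_comp_apply, map_comp_apply] at h
    have h0 : m ≫ fc (X₀ (R := R) B) (0 : Fin 2) = spMap R r ≫ σ₁ := Pi.hom_ext _ _ fun k => by
      obtain rfl : k = 0 := Fin.eq_zero k
      rw [Category.assoc, fc_π, Category.assoc, hσ, Category.comp_id]
      exact Pi.lift_π _ _
    have h1 : m ≫ fc (X₀ (R := R) B) (1 : Fin 2) = spMap R l ≫ σ₁ := Pi.hom_ext _ _ fun k => by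
      obtain rfl : k = 0 := Fin.eq_zero k
      rw [Category.assoc, fc_π, Category.assoc, hσ, Category.comp_id]
      exact Pi.lift_π _ _
    rw [h0, h1] at h
    exact h.symm
  let A' : PUnit.{u + 1} → Type u := fun _ => B
  haveI : Module.FaithfullyFlat R (∀ j, A' j) :=
    Module.FaithfullyFlat.of_linearEquiv R B (LinearEquiv.funUnique PUnit.{u + 1} R B)
  obtain ⟨x₀, hx₀⟩ := hF.family_glue A' (fun _ => y) fun _ _ => hy
  refine ⟨(e _).symm x₀, map_iso_injective σ₁ ((e _).injective ?_)⟩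
  rw [map_comp_apply, ← Category.assoc, hσ, Category.id_comp, he, AddEquiv.apply_symm_apply]
  exact hx₀ PUnit.unit

open CechSingle in
theorem exists_cokernel (hP : IsG P) :
    ∃ (Q : (Over (Spec R))ᵒᵖ ⥤ AddCommGrpCat.{u + 1}) (π : shift (X₀ (R := R) B) P ⟶ Q), IsG Q ∧
      (∀ T, Function.Surjective (π.app T).hom) ∧
      ∀ T y, (π.app T).hom y = 0 ↔ ∃ w, ((toShift (X₀ (R := R) B) P).app T).hom w = y := by
  obtain ⟨F, hF, e, he⟩ := hP
  let η := toShift (X₀ (R := R) B) P
  have hsurj : ∀ T, Function.Surjective ((cokernel.π η).app T).hom := fun T =>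
    (AddCommGrpCat.epi_iff_surjective _).1 inferInstance
  have hexact : ∀ T y, ((cokernel.π η).app T).hom y = 0 ↔ ∃ w, (η.app T).hom w = y := fun T y => by
    have hex := (ShortComplex.exact_cokernel η).map ((evaluation _ AddCommGrpCat.{u + 1}).obj T)
    rw [ShortComplex.ab_exact_iff] at hex
    exact ⟨fun h => hex y h, fun ⟨w, hw⟩ => by
      rw [← hw]; exact ConcreteCategory.congr_hom (congrArg (fun α => NatTrans.app α T) (cokernel.condition η)) w⟩
  refine ⟨cokernel η, cokernel.π η, ?_, hsurj, hexact⟩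
  let ω : ∀ C : Adeq.Alg R, (shift (X₀ (R := R) B) P).obj (op (sp R C)) ≃+ ((PR B).obj F).obj (Adeq.pt C) := fun C =>
    (AddEquiv.ofBijective (P.map (κ B C).op).hom ⟨map_iso_injective _, fun y => ⟨(P.map (inv (κ B C)).op).hom y, by
      rw [map_comp_apply, IsIso.hom_inv_id, op_id, P.map_id]; rfl⟩⟩).trans
      ((e (bX B C)).trans ((evR F (bC B C)).symm.trans (evP' _ C).symm))
  have hω : ∀ (C D : Adeq.Alg R) (f : C ⟶ D) x, ω D (((shift (X₀ (R := R) B) P).map (spMap R f).op).hom x) =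
      mp ((PR B).obj F) f (ω C x) := fun C D f x => by
    show e (bX B D) ((P.map (κ B D).op).hom ((P.map (prod.map (spMap R f) (𝟙 _)).op).hom x)) =
      mp F ((Adeq.Alg.restr R B).map ((Adeq.Alg.baseChange R B).map f)) (e (bX B C) ((P.map (κ B C).op).hom x))
    rw [← he, map_comp_apply, map_comp_apply, κ_nat]
  have hη : ∀ (C : Adeq.Alg R) x, ω C ((η.app (op (sp R C))).hom x) = ap (unitHom (A' := B) F) C (e C x) := fun C x => by
    show e (bX B C) ((P.map (κ B C).op).hom ((P.map (prod.fst : sp R C ⨯ X₀ B ⟶ sp R C).op).hom x)) =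
      mp F (Adeq.Alg.unit R B C) (e C x)
    rw [← he, map_comp_apply, κ_fst]
  let ψ : ∀ C : Adeq.Alg R, (shift (X₀ (R := R) B) P).obj (op (sp R C)) →+ (cokernel (unitHom (A' := B) F)).obj (Adeq.pt C) :=
    fun C => AddMonoidHom.mk' (fun y => ap (cokernel.π (unitHom (A' := B) F)) C (ω C y)) fun a b => by rw [map_add, map_add]
  have hker : ∀ C y, ψ C y = 0 ↔ ((cokernel.π η).app (op (sp R C))).hom y = 0 := fun C y => by
    rw [hexact]
    refine (ap_cokernel_eq_zero (unitHom (A' := B) F) C (ω C y)).trans ⟨?_, ?_⟩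
    · rintro ⟨v, hv⟩
      exact ⟨(e C).symm v, (ω C).injective (by rw [hη, AddEquiv.apply_symm_apply, hv])⟩
    · rintro ⟨w, rfl⟩
      exact ⟨e C w, (hη C w).symm⟩
  let lft : ∀ C : Adeq.Alg R, (cokernel η).obj (op (sp R C)) → (shift (X₀ (R := R) B) P).obj (op (sp R C)) := fun C =>
    Function.surjInv (hsurj _)
  have hlft : ∀ C y, ψ C (lft C (((cokernel.π η).app (op (sp R C))).hom y)) = ψ C y := fun C y => by
    rw [← sub_eq_zero, ← map_sub, hker, map_sub, sub_eq_zero]
    exact Function.surjInv_eq (hsurj _) _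
  let e₀ : ∀ C : Adeq.Alg R, (cokernel η).obj (op (sp R C)) →+ (cokernel (unitHom (A' := B) F)).obj (Adeq.pt C) := fun C =>
    AddMonoidHom.mk' (fun y => ψ C (lft C y)) fun a b => by
      obtain ⟨a, rfl⟩ := hsurj _ a
      obtain ⟨b, rfl⟩ := hsurj _ b
      rw [← map_add, hlft, hlft, hlft, map_add]
  refine ⟨cokernel (unitHom (A' := B) F), good_cokernel hF (good_push (good_restr hF)) _,
    fun C => AddEquiv.ofBijective (e₀ C) ⟨(injective_iff_map_eq_zero _).2 fun y hy => ?_, fun z => ?_⟩, fun C D f y => ?_⟩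
  · obtain ⟨y, rfl⟩ := hsurj _ y
    exact (hker C y).1 ((hlft C y).symm.trans hy)
  · obtain ⟨v, rfl⟩ := ap_surj_of_epi (cokernel.π (unitHom (A' := B) F)) C z
    obtain ⟨w, rfl⟩ := (ω C).surjective v
    exact ⟨((cokernel.π η).app _).hom w, hlft C w⟩
  · obtain ⟨y, rfl⟩ := hsurj _ y
    show ψ D (lft D (((cokernel η).map (spMap R f).op).hom (((cokernel.π η).app _).hom y))) = mp _ f (ψ C (lft C _))
    rw [hlft, show ((cokernel η).map (spMap R f).op).hom (((cokernel.π η).app _).hom y) =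
      ((cokernel.π η).app _).hom (((shift (X₀ (R := R) B) P).map (spMap R f).op).hom y) from
      (ConcreteCategory.congr_hom ((cokernel.π η).naturality (spMap R f).op) y).symm, hlft]
    exact (congrArg (ap (cokernel.π (unitHom (A' := B) F)) D) (hω C D f y)).trans
      (nat_ap (cokernel.π (unitHom (A' := B) F)) f (ω C y))

variable (B) in
theorem exactAt_cech (hP : IsG P) (n : ℕ) (hn : 0 < n) : (CechSingle.cx (X₀ (R := R) B) P).ExactAt n := by
  obtain ⟨n, rfl⟩ : ∃ m, n = m + 1 := ⟨n - 1, by omega⟩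
  refine CechSingle.exactAt_of_ex _ _ n (CechSingle.ex_of_shifting (X₀ (R := R) B)
    (Pi.π (fun _ : Fin 1 => X₀ (R := R) B) 0 ≫ spMap R (ofBase (A := R) B)) (hom_base_ext R _ _) IsG
    (fun P hP => toShift_injective hP) (fun P hP x hx => descent_zero hP x hx) (fun P hP => ?_) n P hP)
  obtain ⟨Q, π, hQ, hs, hex⟩ := exists_cokernel (B := B) hP
  exact ⟨Q, π, hQ, hs _, fun n => hs _, fun n y => hex _ y⟩

theorem exactAt_cech_mod (S : Scheme.{u}) (M : BigSite.Mod Scheme.fppfPrecoverage S)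
    (hM : Adeq.adequateMod Scheme.fppfPrecoverage S M) (a : Spec R ⟶ S) (n : ℕ) (hn : 0 < n) :
    (CechSingle.cx (Over.mk (Spec.map (CommRingCat.ofHom (algebraMap R B))) : Over (Spec R))
      ((Over.map a).op ⋙ ((BigSite.toAbMod Scheme.fppfPrecoverage S).obj M).obj)).ExactAt n := by
  have hX : X₀ (R := R) B = (Over.mk (Spec.map (CommRingCat.ofHom (algebraMap R B))) : Over (Spec R)) :=
    congrArg Over.mk (Category.comp_id _)
  rw [← hX]
  have hs : ∀ C : Adeq.Alg R, (Adeq.specOver a).obj (op C) ≅ (Over.map a).obj (sp R C) := fun C =>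
    Over.isoMk (Iso.refl _) (by
      show 𝟙 _ ≫ (Spec.map (CommRingCat.ofHom (algebraMap R (C : Type u))) ≫ 𝟙 _) ≫ a = _
      rw [Category.id_comp, Category.comp_id]; rfl)
  exact exactAt_cech B ⟨(Adeq.toMVF Scheme.fppfPrecoverage a).obj M, good_of_adequateMod_fppf S M hM R a,
    fun C => (rsEquiv M.val (Over.isoMk (Iso.refl _) (by
      show 𝟙 _ ≫ (Spec.map (CommRingCat.ofHom (algebraMap R (C : Type u))) ≫ 𝟙 _) ≫ a = _
      rw [Category.id_comp, Category.comp_id]; rfl) : (Adeq.specOver a).obj (op C) ≅ (Over.map a).obj (sp R C))).trans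
      (evS M.val a C).symm, fun C D f x => by
        refine (evS M.val a D).injective ?_
        refine Eq.trans ?_ (evS_mp M.val a f _).symm
        show rs M.val _ (rs M.val ((Over.map a).map (spMap R f)) x) = rs M.val _ (rs M.val _ x)
        rw [rs_comp, rs_comp]
        exact congrArg (fun w => rs M.val w x) (Over.OverMorphism.ext ((Category.id_comp _).trans (Category.comp_id _).symm))⟩ n hn

end Groth.Agent.Adeq2Lib.CechAffine
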