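import Groth.Agent.Adeq2Lib.AffineVanish

/-!
# Injective modules are retracts of modules of families
-/

set_option autoImplicit false

universe u

open CategoryTheory Limits AlgebraicGeometry Opposite

namespace Groth.Agent.Adeq2Lib.CofreeMod

open Groth.Agent.Adeq2Lib.AffVan

variable {T : Scheme.{u}}

/-- The presheaf of rings. -/
noncomputable abbrev O₀ (T : Scheme.{u}) : (Over T)ᵒᵖ ⥤ RingCat.{u + 1} :=
  (BigSite.ORing Scheme.fppfPrecoverage T).obj

variable (P : PresheafOfModules.{u + 1} (O₀ T))

/-- The underlying presheaf of groups. -/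
noncomputable abbrev ab : (Over T)ᵒᵖ ⥤ AddCommGrpCat.{u + 1} := (PresheafOfModules.toPresheaf (O₀ T)).obj P

/-- An element as an element of the module. -/
def toP {V : Over T} (x : (ab P).obj (op V)) : P.obj (op V) := x

/-- The scalar action on families. -/
noncomputable instance smulFam (U : (Over T)ᵒᵖ) : SMul ((O₀ T).obj U) ((cofree (ab P)).obj U) where
  smul c x := fun V h => ((O₀ T).map h.op c • toP P (x V h) : P.obj (op V))

theorem smulFam_apply (U : (Over T)ᵒᵖ) (c : (O₀ T).obj U) (x : (cofree (ab P)).obj U) (V : Over T) (h : V ⟶ U.unop) :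
    toP P ((c • x) V h) = (O₀ T).map h.op c • toP P (x V h) := rfl

/-- The module structure on families. -/
noncomputable instance moduleFam (U : (Over T)ᵒᵖ) : Module ((O₀ T).obj U) ((cofree (ab P)).obj U) where
  one_smul x := funext₂ fun V h => by
    refine (smulFam_apply P U 1 x V h).trans ?_
    rw [map_one, one_smul]
    rfl
  mul_smul c d x := funext₂ fun V h => by
    refine (smulFam_apply P U (c * d) x V h).trans ?_
    rw [map_mul, mul_smul]
    rfl
  smul_zero c := funext₂ fun V h => smul_zero (A := P.obj (op V)) ((O₀ T).map h.op c : (O₀ T).obj (op V))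
  smul_add c x y := funext₂ fun V h =>
    smul_add ((O₀ T).map h.op c : (O₀ T).obj (op V)) (toP P (x V h)) (toP P (y V h))
  add_smul c d x := funext₂ fun V h => by
    refine (smulFam_apply P U (c + d) x V h).trans ?_
    rw [map_add, add_smul]
    rfl
  zero_smul x := funext₂ fun V h => by
    refine (smulFam_apply P U 0 x V h).trans ?_
    rw [map_zero, zero_smul]
    rfl

/-- Families as a presheaf of modules. -/
noncomputable def cofreeM : PresheafOfModules.{u + 1} (O₀ T) :=
  @PresheafOfModules.ofPresheaf _ _ (O₀ T) (cofree (ab P)) (moduleFam P) fun U V f c x => funext₂ fun W h => by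
    show (O₀ T).map (h ≫ f.unop).op c • toP P (x W (h ≫ f.unop)) = (O₀ T).map h.op ((O₀ T).map f c) • toP P (x W (h ≫ f.unop))
    rw [op_comp, (O₀ T).map_comp]
    rfl

/-- The map to families. -/
noncomputable def toCofreeM : P ⟶ cofreeM P :=
  PresheafOfModules.homMk (toCofree (ab P)) fun U c x => funext₂ fun V h => (P.map_smul h.op c x :)

theorem exists_retraction (J : BigSite.Mod Scheme.fppfPrecoverage T) [Injective J] :
    ∃ ρ : cofree ((BigSite.toAbMod Scheme.fppfPrecoverage T).obj J).obj ⟶ ((BigSite.toAbMod Scheme.fppfPrecoverage T).obj J).obj,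
      toCofree _ ≫ ρ = 𝟙 _ := by
  let Q : PresheafOfModules.{u + 1} (O₀ T) :=
    (SheafOfModules.forget _ ⋙ PresheafOfModules.restrictScalars (𝟙 (O₀ T))).obj J
  haveI : Injective Q := Injective.injective_of_adjoint
    (PresheafOfModules.sheafificationAdjunction (𝟙 (BigSite.ORing Scheme.fppfPrecoverage T).obj)) J
  haveI : Mono (toCofreeM Q) := by
    haveI : Mono ((PresheafOfModules.toPresheaf (O₀ T)).map (toCofreeM Q)) := by
      have : ∀ U, Mono ((toCofree (ab Q)).app U) := fun U => (AddCommGrpCat.mono_iff_injective _).2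
        fun s s' hs => by
          have h : ((ab Q).map (𝟙 U.unop).op).hom s = ((ab Q).map (𝟙 U.unop).op).hom s' := congrFun (congrFun hs U.unop) (𝟙 _)
          rwa [op_id, CategoryTheory.Functor.map_id] at h
      exact @NatTrans.mono_of_mono_app _ _ _ _ _ _ (toCofree (ab Q)) this
    exact (PresheafOfModules.toPresheaf (O₀ T)).mono_of_mono_map this
  refine ⟨(PresheafOfModules.toPresheaf (O₀ T)).map (Injective.factorThru (𝟙 Q) (toCofreeM Q)), ?_⟩
  exact congrArg (PresheafOfModules.toPresheaf (O₀ T)).map (Injective.comp_factorThru (𝟙 Q) (toCofreeM Q))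

theorem acy_injective_mod (J : BigSite.Mod Scheme.fppfPrecoverage T) [Injective J] :
    Acy ((BigSite.toAbMod Scheme.fppfPrecoverage T).obj J) := by
  obtain ⟨ρ, hρ⟩ := exists_retraction J
  exact acy_of_retraction _ ρ hρ

theorem surjective_rs_of_injective (J : BigSite.Mod Scheme.fppfPrecoverage T) [Injective J] {U V : Over T} (g : U ⟶ V)
    [Mono g] : Function.Surjective (rs J.val g) := by
  classical
  obtain ⟨ρ, hρ⟩ := exists_retraction J
  intro x
  let G := ((BigSite.toAbMod Scheme.fppfPrecoverage T).obj J).obj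
  let y : (cofree G).obj (op V) := fun W h => if hk : ∃ k : W ⟶ U, k ≫ g = h then (G.map hk.choose.op).hom x else 0
  refine ⟨(ρ.app (op V)).hom y, ?_⟩
  show (G.map g.op).hom ((ρ.app (op V)).hom y) = x
  refine (ConcreteCategory.congr_hom (ρ.naturality g.op) y).symm.trans ?_
  have hy : ((cofree G).map g.op).hom y = ((toCofree G).app (op U)).hom x := funext₂ fun W (h : W ⟶ U) => by
    show y W (h ≫ g) = (G.map h.op).hom x
    have hk : ∃ k : W ⟶ U, k ≫ g = h ≫ g := ⟨h, rfl⟩
    simp only [y, dif_pos hk]
    rw [(cancel_mono g).1 hk.choose_spec]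
  refine (congrArg (ρ.app (op U)).hom hy).trans ?_
  exact ConcreteCategory.congr_hom (congrArg (fun α => NatTrans.app α (op U)) hρ) x

end Groth.Agent.Adeq2Lib.CofreeMod
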