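import Mathlib.CategoryTheory.Sites.Over
import Mathlib.CategoryTheory.Sites.Canonical

/-!
# A presheaf on an over category as a presheaf on the category
-/

set_option autoImplicit false

universe w v u

open CategoryTheory Limits Opposite

namespace Groth.Agent.Adeq2Lib

variable {C : Type u} [Category.{v} C] {S : C} (P : (Over S)ᵒᵖ ⥤ Type (max v w))

/-- An element over an object: a structure map and a section. -/
structure El (X : C) : Type (max v w) where
  /-- the structure map -/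
  hom : X ⟶ S
  /-- the section -/
  elt : P.obj (op (Over.mk hom))

variable {P}

/-- The value of an element at an object over it. -/
noncomputable def El.val {X : C} (e : El P X) (W : Over S) (j : W.left ⟶ X) (hj : j ≫ e.hom = W.hom) : P.obj (op W) :=
  P.map (Over.homMk j hj : W ⟶ Over.mk e.hom).op e.elt

theorem El.val_map {X : C} (e : El P X) {W W' : Over S} (k : W' ⟶ W) (j : W.left ⟶ X) (hj : j ≫ e.hom = W.hom) :
    P.map k.op (e.val W j hj) = e.val W' (k.left ≫ j) (by rw [Category.assoc, hj, Over.w k]) := by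
  show P.map k.op (P.map _ e.elt) = P.map _ e.elt
  rw [← CategoryTheory.Functor.map_comp_apply, ← op_comp]
  rfl

theorem El.ext' {X : C} {e e' : El P X} (h : e.hom = e'.hom)
    (h2 : e.elt = e'.val (Over.mk e.hom) (𝟙 X) (by simp [h])) : e = e' := by
  obtain ⟨g, x⟩ := e
  obtain ⟨g', x'⟩ := e'
  obtain rfl : g = g' := h
  have : x = x' := h2.trans (by
    show P.map _ x' = x'
    rw [show (Over.homMk (𝟙 X) _ : Over.mk g ⟶ Over.mk g) = 𝟙 _ from Over.OverMorphism.ext rfl, op_id]
    exact CategoryTheory.Functor.map_id_apply P _ x')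
  rw [this]

variable (P)

/-- The presheaf on the category of elements over objects. -/
noncomputable def sigmaPre : Cᵒᵖ ⥤ Type (max v w) where
  obj X := El P X.unop
  map {X Y} h := TypeCat.ofHom fun e => ⟨h.unop ≫ e.hom, e.val _ h.unop rfl⟩
  map_id X := by
    refine ConcreteCategory.hom_ext _ _ fun e => ?_
    refine El.ext' (Category.id_comp _) ?_
    show e.val (Over.mk (𝟙 _ ≫ e.hom)) (𝟙 _) rfl = e.val (Over.mk (𝟙 _ ≫ e.hom)) (𝟙 _) _
    rfl
  map_comp {X Y Z} h k := by
    refine ConcreteCategory.hom_ext _ _ fun e => ?_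
    refine El.ext' (Category.assoc _ _ _) ?_
    refine Eq.symm ?_
    refine (El.val_map _ _ _ _).trans ?_
    refine (El.val_map _ _ _ _).trans ?_
    show El.val e _ _ _ = El.val e _ _ _
    congr 1
    simp

variable {P}

theorem sigmaPre_map_hom {X Y : C} (h : Y ⟶ X) (e : El P X) :
    ((sigmaPre P).map h.op e : El P Y).hom = h ≫ e.hom := rfl

theorem sigmaPre_map_val {X Y : C} (h : Y ⟶ X) (e : El P X) (W : Over S) (j : W.left ⟶ Y)
    (hj : j ≫ ((sigmaPre P).map h.op e : El P Y).hom = W.hom) :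
    ((sigmaPre P).map h.op e : El P Y).val W j hj = e.val W (j ≫ h) ((Category.assoc _ _ _).trans hj) :=
  El.val_map e (Over.homMk j hj : W ⟶ Over.mk (h ≫ e.hom)) h rfl

theorem isSheafFor_sigmaPre {X : C} (T : Sieve X) (hS : Presieve.IsSheafFor (yoneda.obj S) T.arrows)
    (hP : ∀ g : X ⟶ S, Presieve.IsSheafFor P ((Sieve.overEquiv (Over.mk g)).symm T).arrows) :
    Presieve.IsSheafFor (sigmaPre P) T.arrows := by
  intro x hx
  let y : Presieve.FamilyOfElements (yoneda.obj S) T.arrows := fun Z h hh => (x h hh : El P Z).hom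
  have hy : y.Compatible := fun Y₁ Y₂ Z g₁ g₂ f₁ f₂ h₁ h₂ e =>
    congrArg El.hom (hx g₁ g₂ h₁ h₂ e)
  obtain ⟨g, hg, hguniq⟩ := hS y hy
  let X' : Over S := Over.mk g
  have hw : ∀ {W : Over S} (k : W ⟶ X') (hk : T k.left), 𝟙 W.left ≫ (x k.left hk : El P W.left).hom = W.hom :=
    fun {W} k hk => (Category.id_comp _).trans ((hg k.left hk).symm.trans (Over.w k))
  let z : Presieve.FamilyOfElements P ((Sieve.overEquiv X').symm T).arrows := fun W k hk =>
    (x k.left hk : El P W.left).val W (𝟙 _) (hw k hk)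
  have hz : z.Compatible := fun Y₁ Y₂ Z g₁ g₂ f₁ f₂ h₁ h₂ e => by
    show P.map g₁.op (El.val _ _ _ _) = P.map g₂.op (El.val _ _ _ _)
    rw [El.val_map, El.val_map]
    have h := hx g₁.left g₂.left h₁ h₂ (congrArg CommaMorphism.left e)
    have hj : ∀ {A : C} (g' : Z.left ⟶ A) (e : El P A) (p), e.val Z (g' ≫ 𝟙 _) p =
        ((sigmaPre P).map g'.op e : El P Z.left).val Z (𝟙 _) ((Category.id_comp _).trans (by
          rw [sigmaPre_map_hom, ← p, Category.comp_id])) := fun g' e p => by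
      rw [sigmaPre_map_val]
      simp only [Category.comp_id, Category.id_comp]
    rw [hj, hj]
    congr 1
  obtain ⟨m, hm, hmuniq⟩ := hP g z hz
  refine ⟨⟨g, m⟩, fun Z h hh => ?_, fun e he => ?_⟩
  · refine El.ext' (hg h hh) ?_
    exact hm (Over.homMk h rfl : Over.mk (h ≫ g) ⟶ X') hh
  · obtain ⟨g', m'⟩ := e
    obtain rfl : g' = g := hguniq _ fun Z h hh => congrArg El.hom (he h hh)
    refine congrArg (El.mk g') (hmuniq _ fun W k hk => ?_)
    show P.map k.op m' = El.val _ _ _ _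
    have h := he k.left hk
    refine Eq.trans ?_ (congrArg (fun e : {e : El P W.left // 𝟙 _ ≫ e.hom = W.hom} => e.1.val W (𝟙 _) e.2)
      (Subtype.ext h : (⟨_, (Category.id_comp _).trans (Over.w k)⟩ : {e : El P W.left // 𝟙 _ ≫ e.hom = W.hom}) =
        ⟨x k.left hk, hw k hk⟩))
    refine Eq.trans ?_ (sigmaPre_map_val k.left ⟨g', m'⟩ W (𝟙 _) _).symm
    show P.map k.op m' = P.map _ m'
    congr 2
    exact congrArg (fun w : _ ⟶ _ => P.map w.op) (Over.OverMorphism.ext (show k.left = 𝟙 _ ≫ k.left from (Category.id_comp _).symm))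

theorem isSheafFor_of_sigmaPre (Y : Over S) (T : Sieve Y.left) (hS : Presieve.IsSeparatedFor (yoneda.obj S) T.arrows)
    (hF : Presieve.IsSheafFor (sigmaPre P) T.arrows) :
    Presieve.IsSheafFor P ((Sieve.overEquiv Y).symm T).arrows := by
  intro z hz
  let ov : ∀ {Z : C} (h : Z ⟶ Y.left), Over.mk (h ≫ Y.hom) ⟶ Y := fun h => Over.homMk h rfl
  let x : Presieve.FamilyOfElements (sigmaPre P) T.arrows := fun Z h hh => ⟨h ≫ Y.hom, z (ov h) hh⟩
  have hval : ∀ {Z : C} (h : Z ⟶ Y.left) (hh : T h) (W : Over S) (j : W.left ⟶ Z)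
      (hj : j ≫ (x h hh : El P Z).hom = W.hom) (k : W ⟶ Y) (hk : T k.left), k.left = j ≫ h →
      (x h hh : El P Z).val W j hj = z k hk := fun {Z} h hh W j hj k hk e =>
    (hz (Over.homMk j hj : W ⟶ Over.mk (h ≫ Y.hom)) (𝟙 W) (f₁ := ov h) (f₂ := k) hh hk
      (Over.OverMorphism.ext ((e.symm).trans (Category.id_comp _).symm))).trans (by rw [op_id]; exact CategoryTheory.Functor.map_id_apply P _ _)
  have hx : x.Compatible := fun Y₁ Y₂ Z g₁ g₂ f₁ f₂ h₁ h₂ e => by
    refine El.ext' (((Category.assoc _ _ _).symm.trans (congrArg (· ≫ Y.hom) e)).trans (Category.assoc _ _ _)) ?_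
    rw [sigmaPre_map_val]
    let k : Over.mk (g₁ ≫ f₁ ≫ Y.hom) ⟶ Y := Over.homMk (g₁ ≫ f₁) (Category.assoc _ _ _)
    have hk : T k.left := T.downward_closed h₁ g₁
    exact (hval f₁ h₁ _ g₁ rfl k hk rfl).trans
      (hval f₂ h₂ _ _ _ k hk (e.trans (congrArg (· ≫ f₂) (Category.id_comp g₂).symm))).symm
  obtain ⟨e, he, heuniq⟩ := hF x hx
  obtain ⟨g, m⟩ := e
  obtain rfl : g = Y.hom := hS.ext (P := _) fun Z h hh => congrArg El.hom (he h hh)
  refine ⟨m, fun W k hk => ?_, fun m' hm' => ?_⟩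
  · let k' : W ⟶ Y := k
    have h1 := he k.left hk
    refine Eq.trans ?_ (hval k.left hk W (𝟙 _) ((Category.id_comp _).trans (Over.w k)) k hk (Category.id_comp _).symm)
    refine Eq.trans ?_ (congrArg (fun e : {e : El P W.left // 𝟙 _ ≫ e.hom = W.hom} => e.1.val W (𝟙 _) e.2)
      (Subtype.ext h1 : (⟨_, (Category.id_comp _).trans (Over.w k)⟩ : {e : El P W.left // 𝟙 _ ≫ e.hom = W.hom}) =
        ⟨x k.left hk, (Category.id_comp _).trans (Over.w k)⟩))
    refine Eq.trans ?_ (sigmaPre_map_val k.left ⟨Y.hom, m⟩ W (𝟙 _) _).symm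
    show P.map k.op m = P.map _ m
    congr 2
    exact congrArg (fun w : _ ⟶ _ => P.map w.op) (Over.OverMorphism.ext (show k.left = 𝟙 _ ≫ k.left from (Category.id_comp _).symm))
  · have h2 := heuniq ⟨Y.hom, m'⟩ fun Z h hh => El.ext' rfl (by
      show P.map (ov h).op m' = _
      rw [hm' (ov h) hh]
      exact (hval h hh _ _ _ (ov h) hh (Category.id_comp _).symm).symm)
    injection h2

end Groth.Agent.Adeq2Lib
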