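import Groth.Agent.Adeq2Lib.Pull
import Groth.Agent.Adeq2Lib.SigmaSheaf
import Mathlib.AlgebraicGeometry.Sites.SheafQuasiCompact
import Mathlib.AlgebraicGeometry.EffectiveEpi
import Mathlib.AlgebraicGeometry.Sites.Fpqc

/-!
# Adequate modules are fpqc sheaves
-/

set_option autoImplicit false

universe u

open CategoryTheory Limits AlgebraicGeometry Opposite TensorProduct

namespace Groth.Agent.Adeq2Lib

open Groth.Agent.AdeqFound

variable {K : Precoverage Scheme.{u}} [BigSite.OSh K] {S : Scheme.{u}} (M : BigSite.Mod K S)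

/-- Sections as a presheaf of sets. -/
noncomputable abbrev sectP : (Over S)ᵒᵖ ⥤ Type (u + 1) :=
  ((BigSite.toAbMod K S).obj M).obj ⋙ CategoryTheory.forget AddCommGrpCat.{u + 1}

theorem exact_cech_two' {R : CommRingCat.{u}} (a : Spec R ⟶ S) (hF : Good ((Adeq.toMVF K a).obj M))
    (B : Type u) [CommRing B] [Algebra R B] [Module.FaithfullyFlat R B] :
    Function.Injective (rs M.val ((Adeq.specOver a).map (ofBase (A := R) B).op)) ∧
      ∀ y : M.val.obj (op ((Adeq.specOver a).obj (op (Adeq.algOf R B)))),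
        rs M.val ((Adeq.specOver a).map (CommAlgCat.ofHom
            (Algebra.TensorProduct.includeLeft : B →ₐ[R] B ⊗[R] B) : Adeq.algOf R B ⟶ Adeq.algOf R (B ⊗[R] B)).op) y =
          rs M.val ((Adeq.specOver a).map (CommAlgCat.ofHom
            (Algebra.TensorProduct.includeRight : B →ₐ[R] B ⊗[R] B) : Adeq.algOf R B ⟶ Adeq.algOf R (B ⊗[R] B)).op) y →
        ∃ x, rs M.val ((Adeq.specOver a).map (ofBase (A := R) B).op) x = y := by
  let A' : PUnit.{u + 1} → Type u := fun _ => B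
  haveI : Module.FaithfullyFlat R (∀ j, A' j) :=
    Module.FaithfullyFlat.of_linearEquiv R B (LinearEquiv.funUnique PUnit.{u + 1} R B)
  refine ⟨(injective_iff_map_eq_zero _).2 fun x hx => hF.family_injective A' x fun _ => hx, fun y hy => ?_⟩
  obtain ⟨x, hx⟩ := hF.family_glue A' (fun _ => y) fun _ _ => hy
  exact ⟨x, hx PUnit.unit⟩

theorem isSheafFor_singleton_sigma (hgood : ∀ (R : CommRingCat.{u}) (a : Spec R ⟶ S), Good ((Adeq.toMVF K a).obj M))
    {R B : CommRingCat.{u}} (φ : R ⟶ B) [Flat (Spec.map φ)] [Surjective (Spec.map φ)] :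
    Presieve.IsSheafFor (sigmaPre.{u + 1, u, u + 1} (C := Scheme.{u}) (sectP M)) (.singleton (Spec.map φ)) := by
  rw [Presieve.isSheafFor_singleton]
  intro (x : El.{u + 1, u, u + 1} (sectP M) (Spec B)) hx
  let a : Spec R ⟶ S := EffectiveEpi.desc (Spec.map φ) x.hom fun g₁ g₂ h => congrArg El.hom (hx g₁ g₂ h)
  have ha : Spec.map φ ≫ a = x.hom := EffectiveEpi.fac _ _ _
  letI : Algebra R B := φ.hom.toAlgebra
  haveI : Module.FaithfullyFlat R B :=
    RingHom.faithfullyFlat_algebraMap_iff.1 ((flat_and_surjective_SpecMap_iff φ).1 ⟨‹_›, ‹_›⟩)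
  obtain ⟨hinj, hglue⟩ := exact_cech_two' M a (hgood R a) B
  let W : Over S := (Adeq.specOver a).obj (op (Adeq.algOf R B))
  let y : M.val.obj (op W) := x.val W (𝟙 _) ((Category.id_comp _).trans ha.symm)
  have hy : ∃ m, rs M.val ((Adeq.specOver a).map (ofBase (A := R) B).op) m = y := by
    refine hglue y ?_
    let l : B ⟶ CommRingCat.of ((B : Type u) ⊗[R] (B : Type u)) :=
      CommRingCat.ofHom (Algebra.TensorProduct.includeLeft : (B : Type u) →ₐ[R] (B : Type u) ⊗[R] (B : Type u)).toRingHom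
    let r : B ⟶ CommRingCat.of ((B : Type u) ⊗[R] (B : Type u)) :=
      CommRingCat.ofHom (Algebra.TensorProduct.includeRight : (B : Type u) →ₐ[R] (B : Type u) ⊗[R] (B : Type u)).toRingHom
    have hlr : φ ≫ l = φ ≫ r := CommRingCat.hom_ext (RingHom.ext fun c =>
      ((Algebra.TensorProduct.includeLeft : (B : Type u) →ₐ[R] (B : Type u) ⊗[R] (B : Type u)).commutes c).trans
      ((Algebra.TensorProduct.includeRight : (B : Type u) →ₐ[R] (B : Type u) ⊗[R] (B : Type u)).commutes c).symm)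
    have h : (sigmaPre.{u + 1, u, u + 1} (C := Scheme.{u}) (sectP M)).map (Spec.map l).op x =
        (sigmaPre.{u + 1, u, u + 1} (C := Scheme.{u}) (sectP M)).map (Spec.map r).op x :=
      hx (Spec.map l) (Spec.map r) (by rw [← Spec.map_comp, ← Spec.map_comp, hlr])
    let W₂ : Over S := (Adeq.specOver a).obj (op (Adeq.algOf R ((B : Type u) ⊗[R] (B : Type u))))
    have hW₂ : 𝟙 W₂.left ≫ ((sigmaPre.{u + 1, u, u + 1} (C := Scheme.{u}) (sectP M)).map (Spec.map l).op x : El.{u + 1, u, u + 1} (sectP M) _).hom = W₂.hom := by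
      refine (Category.id_comp _).trans ?_
      show Spec.map l ≫ x.hom = _
      rw [← ha, ← Category.assoc, ← Spec.map_comp]
      exact congrArg (fun w => Spec.map w ≫ a) (CommRingCat.hom_ext (RingHom.ext fun c =>
        (Algebra.TensorProduct.includeLeft : (B : Type u) →ₐ[R] (B : Type u) ⊗[R] (B : Type u)).commutes c))
    have h2 := congrArg (fun e : {e : El.{u + 1, u, u + 1} (sectP M) W₂.left // 𝟙 _ ≫ e.hom = W₂.hom} => e.1.val W₂ (𝟙 _) e.2)
      (Subtype.ext h : (⟨_, hW₂⟩ : {e : El.{u + 1, u, u + 1} (sectP M) W₂.left // 𝟙 _ ≫ e.hom = W₂.hom}) = ⟨_, h ▸ hW₂⟩)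
    refine ((El.val_map x (W := W) _ (𝟙 _) ((Category.id_comp _).trans ha.symm)).trans ?_).trans
      (El.val_map x (W := W) _ (𝟙 _) ((Category.id_comp _).trans ha.symm)).symm
    refine Eq.trans ?_ ((((sigmaPre_map_val (Spec.map l) x W₂ (𝟙 _) _).symm).trans h2).trans
      (sigmaPre_map_val (Spec.map r) x W₂ (𝟙 _) _) |>.trans ?_)
    · congr 1
    · congr 1
  obtain ⟨m, hm⟩ := hy
  let e : El.{u + 1, u, u + 1} (sectP M) (Spec R) := ⟨a, rs M.val (baseIso a).inv m⟩
  refine ⟨e, El.ext' ha ?_, fun e' he' => ?_⟩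
  · show rs M.val (Over.homMk (Spec.map φ) rfl : Over.mk (Spec.map φ ≫ a) ⟶ Over.mk a) (rs M.val (baseIso a).inv m) = x.val _ _ _
    rw [rs_comp]
    refine Eq.trans ?_ ((congrArg (rs M.val (Over.homMk (𝟙 _) (Category.id_comp _) : Over.mk (Spec.map φ ≫ a) ⟶ W)) hm).trans
      ((El.val_map x _ _ _).trans ?_))
    · rw [rs_comp]
      refine congrArg (fun w => rs M.val w m) ?_
      rw [Iso.comp_inv_eq, Category.assoc]
      exact ((congrArg _ (ofBase_comp a φ)).trans (Category.id_comp _)).symm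
    · congr 1
  · obtain ⟨g, n⟩ := e'
    obtain rfl : g = a := (cancel_epi (Spec.map φ)).1 ((congrArg El.hom he').trans ha.symm)
    refine congrArg (El.mk a) ((rsEquiv M.val (baseIso a)).injective (hinj ?_))
    show rs M.val _ (rs M.val (baseIso a).hom n) = rs M.val _ (rs M.val (baseIso a).hom (rs M.val (baseIso a).inv m))
    rw [rs_comp M.val (baseIso a).hom, Iso.hom_inv_id, rs_id, hm, rs_comp, ofBase_comp a φ]
    have h1 := congrArg (fun e : {e : El.{u + 1, u, u + 1} (sectP M) W.left // 𝟙 _ ≫ e.hom = W.hom} => e.1.val W (𝟙 _) e.2)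
      (Subtype.ext he' : (⟨_, Category.id_comp _⟩ : {e : El.{u + 1, u, u + 1} (sectP M) W.left // 𝟙 _ ≫ e.hom = W.hom}) =
        ⟨x, (Category.id_comp _).trans ha.symm⟩)
    refine Eq.trans ?_ h1
    refine Eq.trans ?_ (sigmaPre_map_val (Spec.map φ) ⟨a, n⟩ W (𝟙 _) _).symm
    exact congrArg (fun w => rs M.val w n) (Over.OverMorphism.ext (Category.id_comp _).symm)

theorem isSheaf_fpqc_of_good (hzar : Scheme.zariskiPrecoverage ≤ K)
    (hgood : ∀ (R : CommRingCat.{u}) (a : Spec R ⟶ S), Good ((Adeq.toMVF K a).obj M)) :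
    Presheaf.IsSheaf (QuotSh.J Scheme.fpqcPrecoverage S) ((BigSite.toAbMod K S).obj M).obj := by
  rw [Presheaf.isSheaf_iff_isSheaf_forget _ _ (CategoryTheory.forget AddCommGrpCat.{u + 1}), isSheaf_iff_isSheaf_of_type]
  have hM := (Presheaf.isSheaf_iff_isSheaf_forget (QuotSh.J K S) _ (CategoryTheory.forget AddCommGrpCat.{u + 1})).1
    ((BigSite.toAbMod K S).obj M).property
  rw [isSheaf_iff_isSheaf_of_type] at hM
  have hF : Presieve.IsSheaf (Scheme.propQCTopology @Flat) (sigmaPre.{u + 1, u, u + 1} (C := Scheme.{u}) (sectP M)) := by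
    rw [isSheaf_type_propQCTopology_iff]
    refine ⟨fun X T hT => isSheafFor_sigmaPre.{u + 1, u, u + 1} (P := sectP M) T
      (GrothendieckTopology.Subcanonical.isSheaf_of_isRepresentable (J := Scheme.zariskiTopology) (yoneda.obj S) T hT) fun g => hM _ ?_,
      fun {R B} φ hφ hs => ?_⟩
    · rw [GrothendieckTopology.mem_over_iff, OrderIso.apply_symm_apply]
      exact Precoverage.toGrothendieck_mono hzar _ hT
    · haveI : Flat (Spec.map φ) := hφ
      haveI : Surjective (Spec.map φ) := hs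
      exact isSheafFor_singleton_sigma M hgood φ
  intro Y σ hσ
  rw [GrothendieckTopology.mem_over_iff] at hσ
  rw [← (Sieve.overEquiv Y).symm_apply_apply σ]
  refine isSheafFor_of_sigmaPre.{u + 1, u, u + 1} (P := sectP M) Y _ ?_ ?_
  · exact (GrothendieckTopology.Subcanonical.isSheaf_of_isRepresentable (J := Scheme.fpqcTopology) (yoneda.obj S) _ hσ).isSeparatedFor
  · exact hF _ hσ

end Groth.Agent.Adeq2Lib
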