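import Groth.Agent.Adeq2Lib.Sect

/-!
# Adequacy over affine objects is local
-/

set_option autoImplicit false

universe u

open CategoryTheory Limits AlgebraicGeometry Opposite TensorProduct

namespace Groth.Agent.Adeq2Lib

open Groth.Agent.AdeqFound

variable {R : CommRingCat.{u}}

theorem isPullback_tensor (A' : Type u) [CommRing A'] [Algebra R A'] (C : Adeq.Alg R) :
    IsPullback (Spec.map (CommRingCat.ofHom (Algebra.TensorProduct.includeLeftRingHom : A' →+* A' ⊗[R] (C : Type u))))
      (Spec.map (CommRingCat.ofHom (Algebra.TensorProduct.includeRight : (C : Type u) →ₐ[R] A' ⊗[R] (C : Type u)).toRingHom))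
      (Spec.map (CommRingCat.ofHom (algebraMap R A'))) (Spec.map (CommRingCat.ofHom (algebraMap R (C : Type u)))) :=
  isPullback_SpecMap_of_isPushout _ _ _ _ (CommRingCat.isPushout_tensorProduct R A' (C : Type u))

variable {S : Scheme.{u}} (a : Spec R ⟶ S)

/-- The coface into a base change. -/
noncomputable abbrev gU (A' : Type u) [CommRing A'] [Algebra R A'] (B : Adeq.Alg R) :
    (Adeq.specOver a).obj (op (rB (A := R) (bC A' B))) ⟶ (Adeq.specOver a).obj (op B) :=
  (Adeq.specOver a).map (Adeq.Alg.unit R A' B).op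

variable {P : MorphismProperty Scheme.{u}} [P.IsStableUnderBaseChange] [P.IsStableUnderComposition]

theorem cover_baseChange {J : Type*} (A' : J → Type u) [∀ j, CommRing (A' j)] [∀ j, Algebra R (A' j)]
    (hP : ∀ j, P (Spec.map (CommRingCat.ofHom (algebraMap R (A' j)))))
    (hsurj : ∀ x, ∃ j, x ∈ Set.range (Spec.map (CommRingCat.ofHom (algebraMap R (A' j))))) (B : Adeq.Alg R) :
    Presieve.ofArrows (fun j => ((Adeq.specOver a).obj (op (rB (A := R) (bC (A' j) B)))).left)
      (fun j => (gU a (A' j) B).left) ∈ Scheme.precoverage P ((Adeq.specOver a).obj (op B)).left := by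
  rw [Scheme.ofArrows_mem_precoverage_iff]
  refine ⟨fun x => ?_, fun j => P.of_isPullback (isPullback_tensor (A' j) B) (hP j)⟩
  obtain ⟨j, y, hy⟩ := hsurj (Spec.map (CommRingCat.ofHom (algebraMap R (B : Type u))) x)
  obtain ⟨z, -, hz⟩ := Scheme.Pullback.exists_preimage_pullback (f := Spec.map (CommRingCat.ofHom (algebraMap R (A' j))))
    (g := Spec.map (CommRingCat.ofHom (algebraMap R (B : Type u)))) y x hy
  refine ⟨j, (isPullback_tensor (A' j) B).isoPullback.inv z, ?_⟩
  rw [← hz, ← (isPullback_tensor (A' j) B).isoPullback_inv_snd]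
  rfl

variable [BigSite.OSh (Scheme.precoverage P)]

theorem descent_hyp (M : BigSite.Mod (Scheme.precoverage P) S) {J : Type (u + 1)} (A' : J → Type u)
    [∀ j, CommRing (A' j)] [∀ j, Algebra R (A' j)]
    (hP : ∀ j, P (Spec.map (CommRingCat.ofHom (algebraMap R (A' j)))))
    (hsurj : ∀ x, ∃ j, x ∈ Set.range (Spec.map (CommRingCat.ofHom (algebraMap R (A' j))))) (B : Adeq.Alg R) :
    let F := (Adeq.toMVFPre (Scheme.precoverage P) a).obj M.val
    (∀ x : F.obj (Adeq.pt B), (∀ j, mp F (Adeq.Alg.unit R (A' j) B) x = 0) → x = 0) ∧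
      ∀ y : ∀ j, F.obj (Adeq.pt (rB (A := R) (bC (A' j) B))),
        (∀ j k, mp F (Adeq.Alg.unit R (A' k) (rB (A := R) (bC (A' j) B))) (y j) =
          mp F ((Adeq.Alg.restr R (A' k)).map ((Adeq.Alg.baseChange R (A' k)).map (Adeq.Alg.unit R (A' j) B))) (y k)) →
        ∃ x, ∀ j, mp F (Adeq.Alg.unit R (A' j) B) x = y j := by
  intro F
  have hcov := Precoverage.generate_mem_toGrothendieck (cover_baseChange a A' hP hsurj B)
  refine ⟨fun x hx => ?_, fun y hy => ?_⟩
  · refine (evS M.val a B).map_eq_zero_iff.1 (eq_zero_of_cover M _ (fun j => gU a (A' j) B) hcov _ fun j => ?_)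
    rw [← evS_mp, hx, map_zero]
  · suffices hc : ∀ (j k : J) (W : Over S) (p : W ⟶ (Adeq.specOver a).obj (op (rB (A := R) (bC (A' j) B))))
        (q : W ⟶ (Adeq.specOver a).obj (op (rB (A := R) (bC (A' k) B)))),
        p ≫ gU a (A' j) B = q ≫ gU a (A' k) B → rs M.val p (evS M.val a _ (y j)) = rs M.val q (evS M.val a _ (y k)) by
      obtain ⟨x, hx⟩ := glue M _ (fun j => gU a (A' j) B) hcov (fun j => evS M.val a _ (y j)) hc
      exact ⟨(evS M.val a B).symm x, fun j => (evS M.val a _).injective (by rw [evS_mp, AddEquiv.apply_symm_apply]; exact hx j)⟩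
    intro j k W p q hpq
    have hw : p.left ≫ (gU a (A' j) B).left = q.left ≫ (gU a (A' k) B).left := congrArg (fun w => w.left) hpq
    let C := rB (A := R) (bC (A' j) B)
    have hu : ∀ j, (gU a (A' j) B).left ≫ Spec.map (CommRingCat.ofHom (algebraMap R (B : Type u))) =
        Spec.map (CommRingCat.ofHom (Algebra.TensorProduct.includeLeftRingHom : A' j →+* A' j ⊗[R] (B : Type u))) ≫
          Spec.map (CommRingCat.ofHom (algebraMap R (A' j))) := fun j => (isPullback_tensor (A' j) B).w.symm
    have hC : (gU a (A' j) B).left ≫ Spec.map (CommRingCat.ofHom (algebraMap R (B : Type u))) =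
        Spec.map (CommRingCat.ofHom (algebraMap R (C : Type u))) := by
      show Spec.map _ ≫ Spec.map _ = _
      rw [← Spec.map_comp, ← CommRingCat.ofHom_comp]
      exact congrArg (fun w => Spec.map (CommRingCat.ofHom w))
        (RingHom.ext fun r => by
          show (1 : A' j) ⊗ₜ[R] algebraMap R (B : Type u) r = algebraMap R (A' j) r ⊗ₜ[R] (1 : (B : Type u))
          rw [Algebra.algebraMap_eq_smul_one (A := (B : Type u)) r, Algebra.algebraMap_eq_smul_one (A := A' j) r,
            TensorProduct.tmul_smul, TensorProduct.smul_tmul'])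
    let h := (isPullback_tensor (A' k) C).lift
      (q.left ≫ Spec.map (CommRingCat.ofHom (Algebra.TensorProduct.includeLeftRingHom : A' k →+* A' k ⊗[R] (B : Type u))))
      p.left ((Category.assoc _ _ _).trans <| (congrArg (fun w => q.left ≫ w) (hu k).symm).trans <|
        (Category.assoc _ _ _).symm.trans <| (congrArg (fun w => w ≫ _) hw.symm).trans <|
        (Category.assoc _ _ _).trans (congrArg (fun w => p.left ≫ w) hC))
    let f₁ : (Adeq.specOver a).obj (op (rB (A := R) (bC (A' k) C))) ⟶ (Adeq.specOver a).obj (op C) := gU a (A' k) C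
    have hh : h ≫ f₁.left = p.left := IsPullback.lift_snd _ _ _ _
    let hO : W ⟶ (Adeq.specOver a).obj (op (rB (A := R) (bC (A' k) C))) :=
      Over.homMk h ((congrArg (fun w => h ≫ w) (Over.w f₁).symm).trans ((Category.assoc _ _ _).symm.trans
        ((congrArg (fun w => w ≫ _) hh).trans (Over.w p))))
    have e1 : hO ≫ f₁ = p := by ext1; exact hh
    have e2 : hO ≫ (Adeq.specOver a).map
        ((Adeq.Alg.restr R (A' k)).map ((Adeq.Alg.baseChange R (A' k)).map (Adeq.Alg.unit R (A' j) B))).op = q := by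
      ext1
      show h ≫ Spec.map _ = q.left
      refine (isPullback_tensor (A' k) B).hom_ext ?_ ?_
      · rw [Category.assoc, ← Spec.map_comp, ← CommRingCat.ofHom_comp]
        refine Eq.trans ?_ (IsPullback.lift_fst (isPullback_tensor (A' k) C)
          (q.left ≫ Spec.map (CommRingCat.ofHom (Algebra.TensorProduct.includeLeftRingHom : A' k →+* A' k ⊗[R] (B : Type u))))
          p.left ((Category.assoc _ _ _).trans <| (congrArg (fun w => q.left ≫ w) (hu k).symm).trans <|
            (Category.assoc _ _ _).symm.trans <| (congrArg (fun w => w ≫ _) hw.symm).trans <|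
            (Category.assoc _ _ _).trans (congrArg (fun w => p.left ≫ w) hC)))
        refine congrArg (fun w => h ≫ Spec.map (CommRingCat.ofHom w)) (RingHom.ext fun r => ?_)
        rfl
      · rw [Category.assoc, ← Spec.map_comp, ← CommRingCat.ofHom_comp]
        refine Eq.trans ?_ hw
        refine Eq.trans ?_ (congrArg (fun w => w ≫ (gU a (A' j) B).left) hh)
        rw [Category.assoc]
        refine congrArg (fun w => h ≫ w) ?_
        show _ = Spec.map _ ≫ Spec.map _
        rw [← Spec.map_comp, ← CommRingCat.ofHom_comp]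
        exact congrArg (fun w => Spec.map (CommRingCat.ofHom w)) (RingHom.ext fun b => rfl)
    rw [← e1, ← e2, ← rs_comp, ← rs_comp, ← evS_mp, ← evS_mp, hy]

/-- The hypothesis making `adequateMod` local. -/
structure LocalProp (P : MorphismProperty Scheme.{u}) : Prop where
  of_openImmersion : ∀ {X Y : Scheme.{u}} (f : X ⟶ Y) [IsOpenImmersion f], P f
  isOpenMap : ∀ {X Y : Scheme.{u}} (f : X ⟶ Y), P f → IsOpenMap f

theorem good_of_adequateMod (hloc : LocalProp P) (M : BigSite.Mod (Scheme.precoverage P) S)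
    (hM : Adeq.adequateMod (Scheme.precoverage P) S M) (R : CommRingCat.{u}) (b : Spec R ⟶ S) :
    Good ((Adeq.toMVF (Scheme.precoverage P) b).obj M) := by
  obtain ⟨ι, R₀, a, hcov, hadq⟩ := hM
  rw [Scheme.ofArrows_mem_precoverage_iff] at hcov
  have key : ∀ x : Spec R, ∃ (i : ι) (A' : CommRingCat.{u}) (φ : R ⟶ A') (ψ : R₀ i ⟶ A'),
      P (Spec.map φ) ∧ Spec.map φ ≫ b = Spec.map ψ ≫ a i ∧ x ∈ Set.range (Spec.map φ) := by
    intro x
    obtain ⟨i, y, hy⟩ := hcov.1 (b x)
    obtain ⟨z, hz, -⟩ := Scheme.Pullback.exists_preimage_pullback (f := b) (g := a i) x y hy.symm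
    obtain ⟨W, hW, hzW, -⟩ := exists_isAffineOpen_mem_and_subset (TopologicalSpace.Opens.mem_top z)
    refine ⟨i, _, Spec.preimage (hW.fromSpec ≫ pullback.fst b (a i)), Spec.preimage (hW.fromSpec ≫ pullback.snd b (a i)),
      ?_, ?_, ?_⟩
    · rw [Spec.map_preimage]
      exact P.comp_mem _ _ (hloc.of_openImmersion _) (P.pullback_fst _ _ (hcov.2 i))
    · rw [Spec.map_preimage, Spec.map_preimage, Category.assoc, Category.assoc, pullback.condition]
    · rw [Spec.map_preimage]
      obtain ⟨w, hw⟩ : z ∈ Set.range hW.fromSpec := by rw [hW.range_fromSpec]; exact hzW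
      exact ⟨w, by rw [Scheme.Hom.comp_apply, hw, hz]⟩
  choose i A' φ ψ hφ heq hx using key
  obtain ⟨t, ht⟩ := isCompact_univ.elim_finite_subcover (fun x : Spec R => Set.range (Spec.map (φ x)))
    (fun x => (hloc.isOpenMap _ (hφ x)).isOpen_range) (fun x _ => Set.mem_iUnion.2 ⟨x, hx x⟩)
  let J : Type (u + 1) := ULift.{u + 1} ↥t
  letI : ∀ j : J, Algebra R (A' j.down.1) := fun j => (φ j.down.1).hom.toAlgebra
  refine good_of_descent_family (fun j : J => (A' j.down.1 : Type u)) (fun j => ?_)
    fun B => descent_hyp b M (fun j : J => (A' j.down.1 : Type u)) (fun j => hφ j.down.1) (fun x => ?_) B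
  · letI : Algebra (R₀ (i j.down.1)) (A' j.down.1) := (ψ j.down.1).hom.toAlgebra
    exact (good_restr_iff (R' := A' j.down.1) M.val b (Spec.map (φ j.down.1) ≫ b) rfl).2
      ((good_restr_iff (R' := A' j.down.1) M.val (a _) (Spec.map (φ j.down.1) ≫ b) (heq j.down.1).symm).1
        (good_restr (good_iff.2 (hadq _))))
  · obtain ⟨y, hy, hxy⟩ := Set.mem_iUnion₂.1 (ht (Set.mem_univ x))
    exact ⟨⟨⟨y, hy⟩⟩, hxy⟩

theorem localProp_fppf : LocalProp (@Flat ⊓ @LocallyOfFinitePresentation : MorphismProperty Scheme.{u}) where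
  of_openImmersion f _ := ⟨inferInstance, inferInstance⟩
  isOpenMap f hf := by
    obtain ⟨h₁, h₂⟩ := hf
    exact f.isOpenMap

theorem localProp_zariski : LocalProp (@IsOpenImmersion : MorphismProperty Scheme.{u}) where
  of_openImmersion f _ := ‹_›
  isOpenMap f hf := haveI := hf; f.isOpenEmbedding.isOpenMap

theorem good_of_adequateMod_fppf (S : Scheme.{u}) (M : BigSite.Mod Scheme.fppfPrecoverage S)
    (hM : Adeq.adequateMod Scheme.fppfPrecoverage S M) (R : CommRingCat.{u}) (a : Spec R ⟶ S) :
    Good ((Adeq.toMVF Scheme.fppfPrecoverage a).obj M) :=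
  haveI : BigSite.OSh (Scheme.precoverage (@Flat ⊓ @LocallyOfFinitePresentation : MorphismProperty Scheme.{u})) :=
    inferInstanceAs (BigSite.OSh Scheme.fppfPrecoverage)
  good_of_adequateMod localProp_fppf M hM R a

theorem good_of_adequateMod_zariski (S : Scheme.{u}) (M : BigSite.Mod Scheme.zariskiPrecoverage S)
    (hM : Adeq.adequateMod Scheme.zariskiPrecoverage S M) (R : CommRingCat.{u}) (a : Spec R ⟶ S) :
    Good ((Adeq.toMVF Scheme.zariskiPrecoverage a).obj M) :=
  haveI : BigSite.OSh (Scheme.precoverage (@IsOpenImmersion : MorphismProperty Scheme.{u})) :=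
    inferInstanceAs (BigSite.OSh Scheme.zariskiPrecoverage)
  good_of_adequateMod localProp_zariski M hM R a

end Groth.Agent.Adeq2Lib
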