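import Groth.Agent.Adeq2Lib.SheafOps
import Groth.Agent.AdeqFound.Flat

/-!
# Pullback of adequate modules, parasitic adequate modules
-/

set_option autoImplicit false

universe u

open CategoryTheory Limits AlgebraicGeometry Opposite TensorProduct

namespace Groth.Agent.Adeq2Lib

open Groth.Agent.AdeqFound

variable {S T : Scheme.{u}}

/-- The object over the base of an object over the source. -/
noncomputable def mapIso (f : T ⟶ S) {R : CommRingCat.{u}} (a : Spec R ⟶ T) (B : Adeq.Alg R) :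
    (Over.map f).obj ((Adeq.specOver a).obj (op B)) ≅ (Adeq.specOver (a ≫ f)).obj (op B) :=
  Over.isoMk (Iso.refl _) (by
    show 𝟙 _ ≫ Spec.map (CommRingCat.ofHom (algebraMap R B)) ≫ a ≫ f =
      (Spec.map (CommRingCat.ofHom (algebraMap R B)) ≫ a) ≫ f
    rw [Category.id_comp, Category.assoc])

theorem good_pullMod_iff (f : T ⟶ S) (M : BigSite.Mod Scheme.fppfPrecoverage S) {R : CommRingCat.{u}} (a : Spec R ⟶ T) :
    Good ((Adeq.toMVF Scheme.fppfPrecoverage a).obj ((BigSite.pullMod Scheme.fppfPrecoverage f).obj M)) ↔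
      Good ((Adeq.toMVF Scheme.fppfPrecoverage (a ≫ f)).obj M) := by
  let P := ((BigSite.pullMod Scheme.fppfPrecoverage f).obj M).val
  let e : ∀ B : Adeq.Alg R, ((Adeq.toMVFPre Scheme.fppfPrecoverage (a ≫ f)).obj M.val).obj (Adeq.pt B) ≃+
      ((Adeq.toMVFPre Scheme.fppfPrecoverage a).obj P).obj (Adeq.pt B) := fun B =>
    (evS M.val (a ≫ f) B).trans ((rsEquiv M.val (mapIso f a B)).trans (evS P a B).symm)
  have hsmul : ∀ (B : Adeq.Alg R) (c : (B : Type u)) x, e B (c • x) = c • e B x := by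
    intro B c x
    refine (evS P a B).injective ?_
    show rs M.val (mapIso f a B).hom (evS M.val (a ≫ f) B (c • x)) = evS P a B (c • (evS P a B).symm
      (rs M.val (mapIso f a B).hom (evS M.val (a ≫ f) B x)))
    rw [evS_smul, rs_smul, evS_smul, AddEquiv.apply_symm_apply]
    refine congrArg (fun r : (BigSite.ORing Scheme.fppfPrecoverage S).obj.obj
      (op ((Over.map f).obj ((Adeq.specOver a).obj (op B)))) => r • _) (ULift.ext _ _ ?_)
    show (Scheme.Hom.appTop (𝟙 (Spec (CommRingCat.of B)))) ((Scheme.ΓSpecIso (CommRingCat.of B)).inv c) =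
      (Scheme.ΓSpecIso (CommRingCat.of B)).inv c
    rw [Scheme.Hom.id_appTop]; rfl
  have hnat : ∀ {B C : Adeq.Alg R} (g : B ⟶ C) x, e C (mp _ g x) = mp _ g (e B x) := by
    intro B C g x
    refine (evS P a C).injective ?_
    rw [evS_mp]
    show rs M.val (mapIso f a C).hom (evS M.val (a ≫ f) C (mp _ g x)) =
      rs M.val ((Over.map f).map ((Adeq.specOver a).map g.op)) (rs M.val (mapIso f a B).hom (evS M.val (a ≫ f) B x))
    rw [evS_mp, rs_comp, rs_comp]
    refine congrArg (fun w => rs M.val w (evS M.val (a ≫ f) B x)) ?_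
    ext1
    show 𝟙 _ ≫ Spec.map (CommRingCat.ofHom g.hom.toRingHom) = Spec.map (CommRingCat.ofHom g.hom.toRingHom) ≫ 𝟙 _
    simp
  refine ⟨good_of_equiv (fun B => (e B).symm) (fun B c x => (e B).injective ?_) (fun {B C} g x => (e C).injective ?_),
    good_of_equiv e hsmul hnat⟩
  · exact ((e B).apply_symm_apply _).trans ((congrArg (fun z => c • z) ((e B).apply_symm_apply x)).symm.trans (hsmul B c _).symm)
  · exact ((e C).apply_symm_apply _).trans ((congrArg (fun z => mp _ g z) ((e B).apply_symm_apply x)).symm.trans (hnat g _).symm)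

theorem adequateMod_pullMod (f : T ⟶ S) (M : BigSite.Mod Scheme.fppfPrecoverage S)
    (hM : Adeq.adequateMod Scheme.fppfPrecoverage S M) :
    Adeq.adequateMod Scheme.fppfPrecoverage T ((BigSite.pullMod Scheme.fppfPrecoverage f).obj M) :=
  adequateMod_of_good _ fun R a => (good_pullMod_iff f M a).2 (good_of_adequateMod_fppf S M hM R (a ≫ f))

theorem adequateMod_of_cover (S : Scheme.{u}) (M : BigSite.Mod Scheme.fppfPrecoverage S) (ι : Type u)
    (T : ι → Scheme.{u}) (f : ∀ i, T i ⟶ S) (hcov : Presieve.ofArrows T f ∈ Scheme.fppfPrecoverage.coverings S)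
    (h : ∀ i, Adeq.adequateMod Scheme.fppfPrecoverage (T i) ((BigSite.pullMod Scheme.fppfPrecoverage (f i)).obj M)) :
    Adeq.adequateMod Scheme.fppfPrecoverage S M := by
  have hcov' : Presieve.ofArrows T f ∈ (Scheme.precoverage (Pfppf : MorphismProperty Scheme.{u})).coverings S := hcov
  rw [Scheme.ofArrows_mem_precoverage_iff] at hcov'
  refine ⟨Σ i, (T i).affineOpens, fun p => Γ(T p.1, p.2.1), fun p => p.2.2.fromSpec ≫ f p.1, ?_, fun p => good_iff.1
    ((good_pullMod_iff (f p.1) M p.2.2.fromSpec).1 (good_of_adequateMod_fppf _ _ (h p.1) _ _))⟩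
  show Presieve.ofArrows _ _ ∈ (Scheme.precoverage Pfppf).coverings S
  rw [Scheme.ofArrows_mem_precoverage_iff]
  refine ⟨fun x => ?_, fun p => (Pfppf : MorphismProperty Scheme.{u}).comp_mem _ _ ⟨inferInstance, inferInstance⟩ (hcov'.2 p.1)⟩
  obtain ⟨i, y, hy⟩ := hcov'.1 x
  obtain ⟨W, hW, hyW, -⟩ := exists_isAffineOpen_mem_and_subset (TopologicalSpace.Opens.mem_top y)
  obtain ⟨w, hw⟩ : y ∈ Set.range hW.fromSpec := by rw [hW.range_fromSpec]; exact hyW
  exact ⟨⟨i, W, hW⟩, w, by rw [Scheme.Hom.comp_apply, hw, hy]⟩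

theorem parasitic_tfae (S : Scheme.{u}) (M : BigSite.Mod Scheme.fppfPrecoverage S)
    (hM : Adeq.adequateMod Scheme.fppfPrecoverage S M) :
    List.TFAE [Adeq.parasitic Scheme.fppfPrecoverage S M, Adeq.parasiticFor Scheme.fppfPrecoverage S M,
      ∀ U : S.Opens, Subsingleton (BigSite.sectMod Scheme.fppfPrecoverage M ((BigSite.zarIncl S).obj U)),
      ∃ (ι : Type u) (U : ι → S.Opens), (∀ i, IsAffineOpen (U i)) ∧ (⨆ i, U i) = ⊤ ∧
        ∀ i, Subsingleton (BigSite.sectMod Scheme.fppfPrecoverage M ((BigSite.zarIncl S).obj (U i)))] := by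
  tfae_have 1 → 2 := by
    intro h P hP V g hg
    exact h (Over.mk g) (hP.2 hg).1
  tfae_have 2 → 3 := by
    intro h U
    let g : Bool → Scheme.{u} := fun b => if b then (U : Scheme.{u}) else S
    let v : ∀ b, g b ⟶ S := fun b => match b with
      | true => U.ι
      | false => 𝟙 S
    have hP : Presieve.ofArrows g v ∈ (Scheme.precoverage (Pfppf : MorphismProperty Scheme.{u})).coverings S := by
      rw [Scheme.ofArrows_mem_precoverage_iff]
      refine ⟨fun x => ⟨false, x, rfl⟩, fun b => ?_⟩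
      cases b
      · exact ⟨inferInstanceAs (Flat (𝟙 S)), inferInstanceAs (LocallyOfFinitePresentation (𝟙 S))⟩
      · exact ⟨inferInstanceAs (Flat U.ι), inferInstanceAs (LocallyOfFinitePresentation U.ι)⟩
    exact h hP _ (Presieve.ofArrows.mk true)
  tfae_have 3 → 4 := by
    intro h
    refine ⟨S.affineOpens, fun W => W.1, fun W => W.2, ?_, fun W => h _⟩
    refine eq_top_iff.2 fun x _ => ?_
    obtain ⟨W, hW, hxW, -⟩ := exists_isAffineOpen_mem_and_subset (TopologicalSpace.Opens.mem_top x)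
    exact TopologicalSpace.Opens.mem_iSup.2 ⟨⟨W, hW⟩, hxW⟩
  tfae_have 4 → 1 := by
    rintro ⟨ι, U, hU, htop, hsub⟩ V hV
    refine ⟨fun x y => sub_eq_zero.1 ?_⟩
    generalize x - y = z
    haveI : Flat V.hom := hV
    let I := Σ i : ι, {W : V.left.affineOpens // (W.1 : Set V.left) ⊆ V.hom ⁻¹ᵁ U i}
    let Z : I → Over S := fun p => Over.mk (p.2.1.2.fromSpec ≫ V.hom)
    let g : ∀ p, Z p ⟶ V := fun p => Over.homMk p.2.1.2.fromSpec rfl
    have hcov : Presieve.ofArrows (fun p => (Z p).left) (fun p => (g p).left) ∈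
        (Scheme.precoverage (Pfppf : MorphismProperty Scheme.{u})).coverings V.left := by
      rw [Scheme.ofArrows_mem_precoverage_iff]
      refine ⟨fun v => ?_, fun p => ⟨inferInstanceAs (Flat p.2.1.2.fromSpec),
        inferInstanceAs (LocallyOfFinitePresentation p.2.1.2.fromSpec)⟩⟩
      obtain ⟨i, hi⟩ := TopologicalSpace.Opens.mem_iSup.1 (htop ▸ TopologicalSpace.Opens.mem_top (V.hom v) : V.hom v ∈ ⨆ i, U i)
      obtain ⟨W, hW, hvW, hWU⟩ := exists_isAffineOpen_mem_and_subset (x := v) (U := V.hom ⁻¹ᵁ U i) hi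
      exact ⟨⟨i, ⟨W, hW⟩, hWU⟩, show v ∈ Set.range hW.fromSpec by rw [hW.range_fromSpec]; exact hvW⟩
    refine eq_zero_of_cover M Z g (Precoverage.generate_mem_toGrothendieck hcov) z fun p => ?_
    obtain ⟨i, ⟨W, hW⟩, hWU⟩ := p
    generalize rs M.val (g ⟨i, ⟨W, hW⟩, hWU⟩) z = w
    let A₀ := Γ(S, U i)
    let φ : A₀ ⟶ Γ(V.left, W) := V.hom.appLE (U i) W hWU
    have hφ : Spec.map φ ≫ (hU i).fromSpec = hW.fromSpec ≫ V.hom := (hU i).SpecMap_appLE_fromSpec V.hom hW hWU
    have hφflat : φ.hom.Flat := Flat.flat_appLE V.hom (hU i) hW hWU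
    letI : Algebra A₀ Γ(V.left, W) := φ.hom.toAlgebra
    let F := (Adeq.toMVF Scheme.fppfPrecoverage (hU i).fromSpec).obj M
    have hF : Good F := good_of_adequateMod_fppf S M hM A₀ _
    let A₁ := Adeq.algOf A₀ A₀
    let B₁ := Adeq.algOf A₀ Γ(V.left, W)
    have hA : ∀ v : M.val.obj (op (Over.mk (hU i).fromSpec)), v = 0 := by
      intro v
      let o : Over.mk (hU i).fromSpec ≅ (BigSite.zarIncl S).obj (U i) := Over.isoMk (hU i).isoSpec.symm
        (by exact (hU i).isoSpec_inv_ι)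
      haveI := hsub i
      have h0 : (rsEquiv M.val o).symm v = 0 := Subsingleton.elim (α := M.val.obj (op ((BigSite.zarIncl S).obj (U i)))) _ _
      exact (rsEquiv M.val o).symm.injective (h0.trans (map_zero _).symm)
    have hA₁ : ∀ v : F.obj (Adeq.pt A₁), v = 0 := fun v => by
      refine (evS M.val (hU i).fromSpec A₁).injective ((rsEquiv M.val (baseIso (hU i).fromSpec).symm).injective ?_)
      exact (hA _).trans (hA _).symm
    haveI : Module.Flat A₀ Γ(V.left, W) := hφflat
    let j : A₁ ⟶ B₁ := ofBase (A := A₀) Γ(V.left, W)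
    letI : Algebra (A₁ : Type u) (B₁ : Type u) := φ.hom.toAlgebra
    haveI : Module.Flat (A₁ : Type u) (B₁ : Type u) := hφflat
    have hbij := bijective_bcl_of_flat hF j (fun b => rfl)
    have hzero : ∀ t, bcl F j (fun b => rfl) t = 0 := by
      intro t
      induction t using TensorProduct.induction_on with
      | zero => exact map_zero _
      | tmul c x => rw [bcl_tmul, hA₁ x, map_zero, smul_zero]
      | add x y hx hy => rw [map_add, hx, hy, add_zero]
    let o₂ : (Adeq.specOver (hU i).fromSpec).obj (op B₁) ≅ Z ⟨i, ⟨W, hW⟩, hWU⟩ :=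
      Over.isoMk (Iso.refl _) (by
        show 𝟙 _ ≫ hW.fromSpec ≫ V.hom = Spec.map φ ≫ (hU i).fromSpec
        rw [Category.id_comp, hφ])
    obtain ⟨t, ht⟩ := hbij.2 ((evS M.val (hU i).fromSpec B₁).symm (rsEquiv M.val o₂ w))
    rw [hzero] at ht
    exact (rsEquiv M.val o₂).injective (((AddEquiv.map_eq_zero_iff _).1 ht.symm).trans (map_zero _).symm)
  tfae_finish

theorem exact_cech_two (S : Scheme.{u}) (M : BigSite.Mod Scheme.fppfPrecoverage S)
    (hM : Adeq.adequateMod Scheme.fppfPrecoverage S M) (R : CommRingCat.{u}) (a : Spec R ⟶ S)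
    (B : Type u) [CommRing B] [Algebra R B] [Module.FaithfullyFlat R B] :
    Function.Injective (mp ((Adeq.toMVF Scheme.fppfPrecoverage a).obj M) (ofBase (A := R) B)) ∧
      ∀ y : ((Adeq.toMVF Scheme.fppfPrecoverage a).obj M).obj (Adeq.pt (Adeq.algOf R B)),
        mp ((Adeq.toMVF Scheme.fppfPrecoverage a).obj M) (CommAlgCat.ofHom
            (Algebra.TensorProduct.includeLeft : B →ₐ[R] B ⊗[R] B) : Adeq.algOf R B ⟶ Adeq.algOf R (B ⊗[R] B)) y =
          mp ((Adeq.toMVF Scheme.fppfPrecoverage a).obj M) (CommAlgCat.ofHom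
            (Algebra.TensorProduct.includeRight : B →ₐ[R] B ⊗[R] B) : Adeq.algOf R B ⟶ Adeq.algOf R (B ⊗[R] B)) y →
        y ∈ Set.range (mp ((Adeq.toMVF Scheme.fppfPrecoverage a).obj M) (ofBase (A := R) B)) := by
  have hF := good_of_adequateMod_fppf S M hM R a
  let A' : PUnit.{u + 1} → Type u := fun _ => B
  haveI : Module.FaithfullyFlat R (∀ j, A' j) :=
    Module.FaithfullyFlat.of_linearEquiv R B (LinearEquiv.funUnique PUnit.{u + 1} R B)
  refine ⟨(injective_iff_map_eq_zero _).2 fun x hx => hF.family_injective A' x fun _ => hx, fun y hy => ?_⟩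
  obtain ⟨x, hx⟩ := hF.family_glue A' (fun _ => y) fun _ _ => hy
  exact ⟨x, hx PUnit.unit⟩

end Groth.Agent.Adeq2Lib
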