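import Groth.Agent.Adeq2Lib.SheafOps
import Groth.Agent.AdeqFound.Limit

/-!
# Pushforward of adequate modules along quasi-compact quasi-separated morphisms
-/

set_option autoImplicit false

universe u

open CategoryTheory Limits AlgebraicGeometry Opposite TensorProduct

namespace Groth.Agent.Adeq2Lib

open Groth.Agent.AdeqFound

variable {S T : Scheme.{u}} (f : T ⟶ S) {R : CommRingCat.{u}} (a : Spec R ⟶ S)

/-- An affine piece of the base change. -/
structure Piece where
  /-- its ring -/
  A : CommRingCat.{u}
  /-- the structure map -/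
  φ : R ⟶ A
  /-- its map to the base change -/
  ψ : Spec A ⟶ pullback a f
  comm : ψ ≫ pullback.fst a f = Spec.map φ

variable {f a}

instance Piece.algebra (p : Piece f a) : Algebra R p.A := p.φ.hom.toAlgebra

/-- The map to the source. -/
noncomputable abbrev Piece.toT (p : Piece f a) : Spec p.A ⟶ T := p.ψ ≫ pullback.snd a f

/-- The structure morphism of an algebra. -/
noncomputable abbrev stru (B : Adeq.Alg R) : Spec (CommRingCat.of (B : Type u)) ⟶ Spec R :=
  Spec.map (CommRingCat.ofHom (algebraMap R (B : Type u)))

/-- The object of the pushforward at an algebra. -/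
noncomputable abbrev obY (f : T ⟶ S) (a : Spec R ⟶ S) (B : Adeq.Alg R) : Over T :=
  (Over.pullback f).obj ((Adeq.specOver a).obj (op B))

/-- The map to the base change. -/
noncomputable def toX (f : T ⟶ S) (a : Spec R ⟶ S) (B : Adeq.Alg R) : (obY f a B).left ⟶ pullback a f :=
  pullback.lift (pullback.fst (stru B ≫ a) f ≫ stru B) (pullback.snd (stru B ≫ a) f)
    (by rw [Category.assoc]; exact pullback.condition)

theorem isPullback_toX (f : T ⟶ S) (a : Spec R ⟶ S) (B : Adeq.Alg R) :
    IsPullback (toX f a B) (pullback.fst (stru B ≫ a) f) (pullback.fst a f) (stru B) := by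
  refine IsPullback.of_right (h₁₂ := pullback.snd a f) (h₂₂ := a) ?_ ?_ ((IsPullback.of_hasPullback a f).flip)
  · have h := (IsPullback.of_hasPullback (stru B ≫ a) f).flip
    rwa [show toX f a B ≫ pullback.snd a f = pullback.snd (stru B ≫ a) f from pullback.lift_snd _ _ _]
  · exact pullback.lift_fst _ _ _

/-- The object of a piece at an algebra. -/
noncomputable abbrev obP (p : Piece f a) (B : Adeq.Alg R) : Over T := (Adeq.specOver p.toT).obj (op (bC p.A B))

/-- The left inclusion. -/
noncomputable abbrev incA (p : Piece f a) (B : Adeq.Alg R) : Spec (CommRingCat.of ((p.A : Type u) ⊗[R] (B : Type u))) ⟶ Spec p.A :=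
  Spec.map (CommRingCat.ofHom (algebraMap p.A ((p.A : Type u) ⊗[R] (B : Type u))))

/-- The right inclusion. -/
noncomputable abbrev incB (p : Piece f a) (B : Adeq.Alg R) :
    Spec (CommRingCat.of ((p.A : Type u) ⊗[R] (B : Type u))) ⟶ Spec (CommRingCat.of (B : Type u)) :=
  Spec.map (CommRingCat.ofHom
    (Algebra.TensorProduct.includeRight : (B : Type u) →ₐ[R] (p.A : Type u) ⊗[R] (B : Type u)).toRingHom)

theorem piece_comm (p : Piece f a) (B : Adeq.Alg R) : incA p B ≫ Spec.map p.φ = incB p B ≫ stru B :=
  (isPullback_tensor (R := R) (p.A : Type u) B).w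

/-- The map of a piece into the object of the pushforward. -/
noncomputable def kLeft (p : Piece f a) (B : Adeq.Alg R) : (obP p B).left ⟶ (obY f a B).left :=
  pullback.lift (incB p B) (incA p B ≫ p.toT) (by
    refine ((Category.assoc _ _ _).symm.trans (congrArg (fun w => w ≫ a) (piece_comm p B).symm)).trans ?_
    refine (Category.assoc _ _ _).trans ((congrArg (fun w => incA p B ≫ w ≫ a) p.comm.symm).trans ?_)
    refine Eq.trans ?_ (Category.assoc _ _ _).symm
    exact congrArg (fun w => incA p B ≫ w) ((Category.assoc _ _ _).trans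
      ((congrArg (fun w => p.ψ ≫ w) pullback.condition).trans (Category.assoc _ _ _).symm)))

theorem kLeft_toX (p : Piece f a) (B : Adeq.Alg R) : kLeft p B ≫ toX f a B = incA p B ≫ p.ψ := by
  refine pullback.hom_ext ?_ ?_
  · refine (Category.assoc _ _ _).trans ((congrArg (fun w => kLeft p B ≫ w) (pullback.lift_fst _ _ _)).trans ?_)
    refine (Category.assoc _ _ _).symm.trans ((congrArg (fun w => w ≫ stru B) (pullback.lift_fst _ _ _)).trans ?_)
    exact (piece_comm p B).symm.trans ((congrArg (fun w => incA p B ≫ w) p.comm.symm).trans (Category.assoc _ _ _).symm)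
  · refine (Category.assoc _ _ _).trans ((congrArg (fun w => kLeft p B ≫ w) (pullback.lift_snd _ _ _)).trans ?_)
    exact (pullback.lift_snd _ _ _).trans (Category.assoc _ _ _).symm

theorem isPullback_kLeft (p : Piece f a) (B : Adeq.Alg R) :
    IsPullback (incA p B) (kLeft p B) p.ψ (toX f a B) := by
  refine IsPullback.of_bot (v₂₁ := pullback.fst (stru B ≫ a) f) (v₂₂ := pullback.fst a f) (h₃₁ := stru B) ?_
    (kLeft_toX p B).symm (isPullback_toX f a B)
  have h := isPullback_tensor (R := R) (p.A : Type u) B
  have e1 : kLeft p B ≫ pullback.fst (stru B ≫ a) f = incB p B := pullback.lift_fst _ _ _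
  have e2 : p.ψ ≫ pullback.fst a f = Spec.map (CommRingCat.ofHom (algebraMap R (p.A : Type u))) := p.comm
  refine e1.symm ▸ e2.symm ▸ ?_
  exact h

/-- The map of a piece into the object of the pushforward, over the source. -/
noncomputable def kk (p : Piece f a) (B : Adeq.Alg R) : obP p B ⟶ obY f a B :=
  Over.homMk (kLeft p B) (pullback.lift_snd _ _ _)

variable [BigSite.OSh Scheme.fppfPrecoverage.{u}] (M : BigSite.Mod Scheme.fppfPrecoverage T)

/-- The pushed forward functor. -/
noncomputable abbrev pushF : Adeq.MVF R :=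
  (Adeq.toMVFPre Scheme.fppfPrecoverage a).obj ((BigSite.pushMod Scheme.fppfPrecoverage f).obj M).val

/-- The functor of a piece. -/
noncomputable abbrev pieceF (p : Piece f a) : Adeq.MVF R :=
  (Adeq.push R p.A).obj ((Adeq.toMVFPre Scheme.fppfPrecoverage p.toT).obj M.val)

/-- The value of the pushed forward functor. -/
noncomputable def evY (B : Adeq.Alg R) :
    (pushF (f := f) (a := a) M).obj (Adeq.pt B) ≃+ M.val.obj (op (obY f a B)) :=
  { toFun := fun x => x, invFun := fun x => x, left_inv := fun _ => rfl, right_inv := fun _ => rfl,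
    map_add' := fun _ _ => rfl }

/-- The value of the functor of a piece. -/
noncomputable def evPc (p : Piece f a) (B : Adeq.Alg R) : (pieceF M p).obj (Adeq.pt B) ≃+ M.val.obj (op (obP p B)) :=
  (evP' _ B).trans (evS M.val p.toT (bC p.A B))

/-- The action of an algebra on a function space through a map to its spectrum. -/
noncomputable def sc {U : Over T} {B : Adeq.Alg R} (π : U.left ⟶ Spec (CommRingCat.of (B : Type u))) (c : (B : Type u)) :
    (BigSite.ORing Scheme.fppfPrecoverage T).obj.obj (op U) :=
  ULift.up (π.appTop ((Scheme.ΓSpecIso (CommRingCat.of (B : Type u))).inv c))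

theorem sc_map {U V : Over T} (m : U ⟶ V) {B : Adeq.Alg R} (π : V.left ⟶ Spec (CommRingCat.of (B : Type u)))
    (π' : U.left ⟶ Spec (CommRingCat.of (B : Type u))) (h : m.left ≫ π = π') (c : (B : Type u)) :
    (BigSite.ORing Scheme.fppfPrecoverage T).obj.map m.op (sc π c) = sc π' c := by
  subst h
  refine ULift.ext _ _ ?_
  show m.left.appTop (π.appTop _) = (m.left ≫ π).appTop _
  rw [Scheme.Hom.comp_appTop]; rfl

theorem evY_smul (B : Adeq.Alg R) (c : (B : Type u)) (x : (pushF (f := f) (a := a) M).obj (Adeq.pt B)) :
    evY M B (c • x) = sc (U := obY f a B) (pullback.fst (stru B ≫ a) f) c • evY M B x := rfl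

theorem evPc_smul (p : Piece f a) (B : Adeq.Alg R) (c : (B : Type u)) (x : (pieceF M p).obj (Adeq.pt B)) :
    evPc M p B (c • x) = sc (U := obP p B) (incB p B) c • evPc M p B x := by
  show evS M.val p.toT (bC p.A B) (evP' _ B (c • x)) = _
  rw [evP'_smul, evS_smul]
  refine congrArg (fun r : (BigSite.ORing Scheme.fppfPrecoverage T).obj.obj (op (obP p B)) => r • _) (ULift.ext _ _ ?_)
  exact (congrArg (fun w : CommRingCat.of (B : Type u) ⟶ _ => w c) (Scheme.ΓSpecIso_inv_naturality (CommRingCat.ofHom
    (Algebra.TensorProduct.includeRight : (B : Type u) →ₐ[R] (p.A : Type u) ⊗[R] (B : Type u)).toRingHom)))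

/-- Restriction to a piece. -/
noncomputable def uHom (p : Piece f a) : pushF (f := f) (a := a) M ⟶ pieceF M p :=
  mkHom (fun B =>
    { toFun := fun x => (evPc M p B).symm (rs M.val (kk p B) (evY M B x))
      map_add' := fun x y => by rw [map_add, map_add, map_add]
      map_smul' := fun c x => (evPc M p B).injective (by
        rw [RingHom.id_apply, evPc_smul, AddEquiv.apply_symm_apply, AddEquiv.apply_symm_apply, evY_smul, rs_smul]
        exact congrArg (fun z : (BigSite.ORing Scheme.fppfPrecoverage T).obj.obj (op (obP p B)) => z • rs M.val (kk p B) (evY M B x))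
          (sc_map (kk p B) _ (incB p B) (pullback.lift_fst _ _ _) c)) })
    (fun {B C} g x => (evPc M p C).injective (by
      show evPc M p C ((evPc M p C).symm (rs M.val (kk p C) (evY M C (mp _ g x)))) =
        rs M.val ((Adeq.specOver p.toT).map ((Adeq.Alg.baseChange R p.A).map g).op)
          (evPc M p B ((evPc M p B).symm (rs M.val (kk p B) (evY M B x))))
      rw [AddEquiv.apply_symm_apply, AddEquiv.apply_symm_apply,
        show evY M C (mp (pushF (f := f) (a := a) M) g x) =
          rs M.val ((Over.pullback f).map ((Adeq.specOver a).map g.op)) (evY M B x) from rfl, rs_comp, rs_comp]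
      refine congrArg (fun w => rs M.val w (evY M B x)) ?_
      ext1
      refine pullback.hom_ext ?_ ?_
      · refine ((Category.assoc _ _ _).trans (congrArg (fun w => kLeft p C ≫ w) (pullback.lift_fst _ _ _))).trans ?_
        refine ((Category.assoc _ _ _).symm.trans (congrArg (fun w => w ≫ _) (pullback.lift_fst _ _ _))).trans ?_
        refine Eq.trans ?_ ((Category.assoc _ _ _).trans (congrArg (fun w => _ ≫ w) (pullback.lift_fst _ _ _))).symm
        show Spec.map _ ≫ Spec.map _ = Spec.map _ ≫ Spec.map _
        rw [← Spec.map_comp, ← Spec.map_comp]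
        exact congrArg Spec.map (CommRingCat.hom_ext (RingHom.ext fun b => rfl))
      · refine ((Category.assoc _ _ _).trans (congrArg (fun w => kLeft p C ≫ w) (pullback.lift_snd _ _ _))).trans ?_
        refine Eq.trans ?_ ((Category.assoc _ _ _).trans (congrArg (fun w => _ ≫ w) (pullback.lift_snd _ _ _))).symm
        refine (pullback.lift_snd _ _ _).trans ?_
        show incA p C ≫ p.toT = Spec.map _ ≫ incA p B ≫ p.toT
        refine Eq.trans ?_ (Category.assoc _ _ _)
        refine congrArg (fun w => w ≫ p.toT) ?_
        show Spec.map _ = Spec.map _ ≫ Spec.map _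
        rw [← Spec.map_comp]
        exact congrArg Spec.map (CommRingCat.hom_ext (RingHom.ext fun t => congrArg (t ⊗ₜ[R] ·) (map_one g.hom).symm))))

variable {p q : Piece f a} (r : (p.A : Type u) →ₐ[R] (q.A : Type u)) (hr : Spec.map (CommRingCat.ofHom r.toRingHom) ≫ p.ψ = q.ψ)

/-- The transition map between pieces. -/
noncomputable def mLeft (B : Adeq.Alg R) : (obP q B).left ⟶ (obP p B).left :=
  Spec.map (CommRingCat.ofHom (Algebra.TensorProduct.map r (AlgHom.id R (B : Type u))).toRingHom)

theorem mLeft_incA (B : Adeq.Alg R) :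
    mLeft r B ≫ incA p B = incA q B ≫ Spec.map (CommRingCat.ofHom r.toRingHom) := by
  show Spec.map _ ≫ Spec.map _ = Spec.map _ ≫ Spec.map _
  rw [← Spec.map_comp, ← Spec.map_comp]
  exact congrArg Spec.map (CommRingCat.hom_ext (RingHom.ext fun t => rfl))

theorem mLeft_incB (B : Adeq.Alg R) : mLeft r B ≫ incB p B = incB q B := by
  show Spec.map _ ≫ Spec.map _ = Spec.map _
  rw [← Spec.map_comp]
  refine congrArg Spec.map (CommRingCat.hom_ext (RingHom.ext fun b => ?_))
  exact congrArg (· ⊗ₜ[R] b) (map_one r)

include hr in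
theorem mLeft_over (B : Adeq.Alg R) : mLeft r B ≫ (obP p B).hom = (obP q B).hom := by
  show mLeft r B ≫ incA p B ≫ p.toT = incA q B ≫ q.toT
  refine (Category.assoc _ _ _).symm.trans ((congrArg (fun w => w ≫ p.toT) (mLeft_incA r B)).trans ?_)
  refine (Category.assoc _ _ _).trans (congrArg (fun w => incA q B ≫ w) ?_)
  exact (Category.assoc _ _ _).symm.trans (congrArg (fun w => w ≫ pullback.snd a f) hr)

/-- The transition map over the source. -/
noncomputable def mm (B : Adeq.Alg R) : obP q B ⟶ obP p B := Over.homMk (mLeft r B) (mLeft_over r hr B)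

include hr in
theorem kk_mm (B : Adeq.Alg R) : mm r hr B ≫ kk p B = kk q B := by
  ext1
  refine pullback.hom_ext ?_ ?_
  · refine ((Category.assoc _ _ _).trans (congrArg (fun w => mLeft r B ≫ w) (pullback.lift_fst _ _ _))).trans ?_
    exact (mLeft_incB r B).trans (pullback.lift_fst _ _ _).symm
  · refine ((Category.assoc _ _ _).trans (congrArg (fun w => mLeft r B ≫ w) (pullback.lift_snd _ _ _))).trans ?_
    exact (mLeft_over r hr B).trans (pullback.lift_snd _ _ _).symm

/-- The transition morphism between the functors of pieces. -/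
noncomputable def trHom : pieceF M p ⟶ pieceF M q :=
  mkHom (fun B =>
    { toFun := fun x => (evPc M q B).symm (rs M.val (mm r hr B) (evPc M p B x))
      map_add' := fun x y => by rw [map_add, map_add, map_add]
      map_smul' := fun c x => (evPc M q B).injective (by
        rw [RingHom.id_apply, AddEquiv.apply_symm_apply, evPc_smul, rs_smul]
        refine Eq.trans ?_ ((evPc_smul M q B c _).trans (congrArg _ (AddEquiv.apply_symm_apply _ _))).symm
        exact congrArg (fun z : (BigSite.ORing Scheme.fppfPrecoverage T).obj.obj (op (obP q B)) => z • rs M.val (mm r hr B) (evPc M p B x))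
          (sc_map (mm r hr B) _ (incB q B) (mLeft_incB r B) c)) })
    (fun {B C} g x => (evPc M q C).injective (by
      show evPc M q C ((evPc M q C).symm (rs M.val (mm r hr C) (evPc M p C (mp _ g x)))) =
        rs M.val ((Adeq.specOver q.toT).map ((Adeq.Alg.baseChange R q.A).map g).op)
          (evPc M q B ((evPc M q B).symm (rs M.val (mm r hr B) (evPc M p B x))))
      rw [AddEquiv.apply_symm_apply, AddEquiv.apply_symm_apply,
        show evPc M p C (mp (pieceF M p) g x) =
          rs M.val ((Adeq.specOver p.toT).map ((Adeq.Alg.baseChange R p.A).map g).op) (evPc M p B x) from rfl, rs_comp, rs_comp]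
      refine congrArg (fun w => rs M.val w (evPc M p B x)) ?_
      ext1
      show Spec.map _ ≫ Spec.map _ = Spec.map _ ≫ Spec.map _
      rw [← Spec.map_comp, ← Spec.map_comp]
      refine congrArg Spec.map (CommRingCat.hom_ext (RingHom.ext fun t => ?_))
      induction t using TensorProduct.induction_on with
      | zero => simp
      | tmul x y => rfl
      | add x y hx hy => rw [map_add, map_add, hx, hy]))

end Groth.Agent.Adeq2Lib
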