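import Groth.Agent.Adeq2Lib.Push

/-!
# Pushforward along quasi-compact quasi-separated morphisms preserves adequacy
-/

set_option autoImplicit false

universe u w w'

open CategoryTheory Limits AlgebraicGeometry Opposite TensorProduct

namespace Groth.Agent.Adeq2Lib

open Groth.Agent.AdeqFound

section OpenCover

variable {T : Scheme.{u}} [BigSite.OSh Scheme.fppfPrecoverage.{u}] (M : BigSite.Mod Scheme.fppfPrecoverage T)

theorem generate_open_mem {Y : Over T} {I : Type w} (Z : I → Over T) (g : ∀ i, Z i ⟶ Y)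
    (hg : ∀ i, IsOpenImmersion (g i).left) (hcov : ∀ y, ∃ i, y ∈ Set.range (g i).left) :
    Sieve.generate (Presieve.ofArrows (fun i => (Z i).left) fun i => (g i).left) ∈
      Scheme.fppfPrecoverage.toGrothendieck Y.left := by
  have h : Presieve.ofArrows (fun i => (Z i).left) (fun i => (g i).left) ∈
      (Scheme.precoverage (Pfppf : MorphismProperty Scheme.{u})).coverings Y.left := by
    rw [Scheme.ofArrows_mem_precoverage_iff]
    exact ⟨hcov, fun i => by haveI := hg i; exact ⟨inferInstance, inferInstance⟩⟩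
  exact Precoverage.generate_mem_toGrothendieck (J := Scheme.precoverage (Pfppf : MorphismProperty Scheme.{u})) h

theorem glue_open {Y : Over T} {J : Type w} (Z : J → Over T) (g : ∀ j, Z j ⟶ Y)
    (hg : ∀ j, IsOpenImmersion (g j).left) (hcov : ∀ y, ∃ j, y ∈ Set.range (g j).left)
    {K : Type w'} (V : K → Over T) (s t : K → J) (vs : ∀ k, V k ⟶ Z (s k)) (vt : ∀ k, V k ⟶ Z (t k))
    (hV : ∀ k, IsOpenImmersion (vs k ≫ g (s k)).left) (heq : ∀ k, vs k ≫ g (s k) = vt k ≫ g (t k))
    (hint : ∀ i j y, y ∈ Set.range (g i).left → y ∈ Set.range (g j).left →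
      ∃ k, s k = i ∧ t k = j ∧ y ∈ Set.range (vs k ≫ g (s k)).left)
    (z : ∀ j, M.val.obj (op (Z j))) (hz : ∀ k, rs M.val (vs k) (z (s k)) = rs M.val (vt k) (z (t k))) :
    ∃ x, ∀ j, rs M.val (g j) x = z j := by
  refine glue M Z g (generate_open_mem Z g hg hcov) z fun i j W p q hpq => ?_
  let K' := {k : K // s k = i ∧ t k = j}
  let e : K' → Scheme.{u} := fun k => pullback (p ≫ g i).left (vs k.1 ≫ g (s k.1)).left
  let W' : K' → Over T := fun k => Over.mk (pullback.fst (p ≫ g i).left (vs k.1 ≫ g (s k.1)).left ≫ W.hom)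
  let π : ∀ k, W' k ⟶ W := fun k => Over.homMk (pullback.fst _ _) rfl
  let σ : ∀ k, W' k ⟶ V k.1 := fun k => Over.homMk (pullback.snd _ _) (by
    refine (congrArg (fun w => pullback.snd _ _ ≫ w) (Over.w (vs k.1 ≫ g (s k.1))).symm).trans ?_
    refine ((Category.assoc _ _ _).symm.trans (congrArg (fun w => w ≫ Y.hom) pullback.condition.symm)).trans ?_
    exact (Category.assoc _ _ _).trans (congrArg (fun w => pullback.fst _ _ ≫ w) (Over.w (p ≫ g i))))
  have hπσ : ∀ k, π k ≫ p ≫ g i = σ k ≫ vs k.1 ≫ g (s k.1) := fun k => by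
    ext1
    exact pullback.condition
  refine sub_eq_zero.1 (eq_zero_of_cover M W' π (generate_open_mem W' π (fun k => ?_) fun y => ?_) _ fun k => ?_)
  · haveI := hV k.1
    show IsOpenImmersion (pullback.fst _ _)
    infer_instance
  · obtain ⟨k, hs, ht, v, hv⟩ := hint i j ((p ≫ g i).left y) ⟨p.left y, rfl⟩ ⟨q.left y, by rw [hpq]; rfl⟩
    obtain ⟨o, ho, -⟩ := Scheme.Pullback.exists_preimage_pullback y v hv.symm
    exact ⟨⟨k, hs, ht⟩, o, ho⟩
  · obtain ⟨k, rfl, rfl⟩ := k
    rw [map_sub, rs_comp, rs_comp, sub_eq_zero]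
    have h1 : π ⟨k, rfl, rfl⟩ ≫ p = σ ⟨k, rfl, rfl⟩ ≫ vs k := by
      ext1
      haveI := hg (s k)
      rw [← cancel_mono (g (s k)).left, ← Over.comp_left, ← Over.comp_left]
      simp only [Category.assoc]
      exact congrArg CommaMorphism.left (hπσ ⟨k, rfl, rfl⟩)
    have h2 : π ⟨k, rfl, rfl⟩ ≫ q = σ ⟨k, rfl, rfl⟩ ≫ vt k := by
      ext1
      haveI := hg (t k)
      rw [← cancel_mono (g (t k)).left, ← Over.comp_left, ← Over.comp_left]
      simp only [Category.assoc]
      rw [← hpq, ← heq k]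
      exact congrArg CommaMorphism.left (hπσ ⟨k, rfl, rfl⟩)
    rw [h1, h2, ← rs_comp, ← rs_comp, hz k]

end OpenCover

variable {S T : Scheme.{u}} {f : T ⟶ S} {R : CommRingCat.{u}} {a : Spec R ⟶ S}

/-- The piece of an affine open. -/
noncomputable def pieceOf (W : (pullback a f).affineOpens) : Piece f a where
  A := Γ(pullback a f, W.1)
  φ := Spec.preimage (W.2.fromSpec ≫ pullback.fst a f)
  ψ := W.2.fromSpec
  comm := (Spec.map_preimage _).symm

theorem range_pieceOf (W : (pullback a f).affineOpens) : Set.range (pieceOf W).ψ = (W.1 : Set (pullback a f :)) :=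
  W.2.range_fromSpec

theorem isOpenImmersion_pieceOf (W : (pullback a f).affineOpens) : IsOpenImmersion (pieceOf W).ψ :=
  IsAffineOpen.isOpenImmersion_fromSpec W.2

theorem exists_trans (p q : Piece f a) [IsOpenImmersion p.ψ] (h : Set.range q.ψ ⊆ Set.range p.ψ) :
    ∃ r : (p.A : Type u) →ₐ[R] (q.A : Type u), Spec.map (CommRingCat.ofHom r.toRingHom) ≫ p.ψ = q.ψ := by
  let r₀ : p.A ⟶ q.A := Spec.preimage (IsOpenImmersion.lift p.ψ q.ψ h)
  have hr₀ : Spec.map r₀ ≫ p.ψ = q.ψ :=
    (congrArg (fun w => w ≫ p.ψ) (Spec.map_preimage _)).trans (IsOpenImmersion.lift_fac _ _ h)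
  have hφ : p.φ ≫ r₀ = q.φ := Spec.map_injective (by
    rw [Spec.map_comp, ← p.comm, ← q.comm]
    exact (Category.assoc _ _ _).symm.trans (congrArg (fun w => w ≫ pullback.fst a f) hr₀))
  exact ⟨{ r₀.hom with commutes' := fun c => congrArg (fun w : R ⟶ q.A => w c) hφ }, hr₀⟩

theorem isOpenImmersion_kLeft (p : Piece f a) (hp : IsOpenImmersion p.ψ) (B : Adeq.Alg R) :
    IsOpenImmersion (kk p B).left :=
  MorphismProperty.of_isPullback (P := @IsOpenImmersion) (isPullback_kLeft p B) hp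

theorem mem_range_kLeft_iff (p : Piece f a) (B : Adeq.Alg R) (y : ((obY f a B).left :)) :
    y ∈ Set.range (kk p B).left ↔ toX f a B y ∈ Set.range p.ψ := by
  constructor
  · rintro ⟨o, rfl⟩
    exact ⟨incA p B o, congrArg (fun w : (obP p B).left ⟶ pullback a f => w o) (isPullback_kLeft p B).w⟩
  · rintro ⟨x, hx⟩
    obtain ⟨o, -, ho⟩ := Scheme.exists_preimage_of_isPullback (isPullback_kLeft p B) x y hx
    exact ⟨o, ho⟩

variable [BigSite.OSh Scheme.fppfPrecoverage.{u}] (M : BigSite.Mod Scheme.fppfPrecoverage T)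

theorem ap_uHom (p : Piece f a) (B : Adeq.Alg R) (x) :
    evPc M p B (ap (uHom M p) B x) = rs M.val (kk p B) (evY M B x) := (evPc M p B).apply_symm_apply _

theorem ap_trHom {p q : Piece f a} (r : (p.A : Type u) →ₐ[R] (q.A : Type u))
    (hr : Spec.map (CommRingCat.ofHom r.toRingHom) ≫ p.ψ = q.ψ) (B : Adeq.Alg R) (x) :
    evPc M q B (ap (trHom M r hr) B x) = rs M.val (mm r hr B) (evPc M p B x) := (evPc M q B).apply_symm_apply _

theorem uHom_trHom {p q : Piece f a} (r : (p.A : Type u) →ₐ[R] (q.A : Type u))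
    (hr : Spec.map (CommRingCat.ofHom r.toRingHom) ≫ p.ψ = q.ψ) : uHom M p ≫ trHom M r hr = uHom M q :=
  hom_ext fun B x => (evPc M q B).injective (by
    rw [ap_comp, ap_trHom, ap_uHom, ap_uHom, rs_comp, kk_mm])

theorem good_pushMod [QuasiCompact f] [QuasiSeparated f]
    (hM : Adeq.adequateMod Scheme.fppfPrecoverage T M) (R : CommRingCat.{u}) (a : Spec R ⟶ S) :
    Good ((Adeq.toMVF Scheme.fppfPrecoverage a).obj ((BigSite.pushMod Scheme.fppfPrecoverage f).obj M)) := by
  haveI : CompactSpace (pullback a f :) := QuasiCompact.compactSpace_of_compactSpace (pullback.fst a f)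
  haveI : QuasiSeparatedSpace (pullback a f :) := quasiSeparatedSpace_of_quasiSeparated (pullback.fst a f)
  obtain ⟨sJ, hsJ⟩ := isCompact_univ.elim_finite_subcover (fun W : (pullback a f).affineOpens => (W.1 : Set (pullback a f :)))
    (fun W => W.1.2) fun x _ => by
      obtain ⟨W, hW, hxW, -⟩ := exists_isAffineOpen_mem_and_subset (TopologicalSpace.Opens.mem_top x)
      exact Set.mem_iUnion.2 ⟨⟨W, hW⟩, hxW⟩
  have hI : ∀ V W : (pullback a f).affineOpens, ∃ t : Finset (pullback a f).affineOpens,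
      (∀ U ∈ t, (U.1 : Set (pullback a f :)) ⊆ (V.1 : Set (pullback a f :)) ∩ W.1) ∧
      ∀ x ∈ (V.1 : Set (pullback a f :)) ∩ W.1, ∃ U ∈ t, x ∈ U.1 := by
    intro V W
    obtain ⟨t, ht⟩ := (quasiSeparatedSpace_iff_forall_affineOpens.1 inferInstance V W).elim_finite_subcover
      (fun U : {U : (pullback a f).affineOpens // U.1 ≤ V.1 ⊓ W.1} => (U.1.1 : Set (pullback a f :)))
      (fun U => U.1.1.2) fun x hx => by
        obtain ⟨U, hU, hxU, hUle⟩ := exists_isAffineOpen_mem_and_subset (U := V.1 ⊓ W.1) hx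
        exact Set.mem_iUnion.2 ⟨⟨⟨U, hU⟩, hUle⟩, hxU⟩
    classical
    refine ⟨t.image Subtype.val, fun U hU => ?_, fun x hx => ?_⟩
    · obtain ⟨U', -, rfl⟩ := Finset.mem_image.1 hU
      exact U'.2
    · obtain ⟨U, hU, hxU⟩ := Set.mem_iUnion₂.1 (ht hx)
      exact ⟨U.1, Finset.mem_image_of_mem _ hU, hxU⟩
  choose tK htK htK' using hI
  let J : Type (u + 1) := ULift.{u + 1} sJ
  let K : Type (u + 1) := Σ j : J, Σ k : J, ULift.{u + 1} (tK j.down.1 k.down.1)
  let P : J → Piece f a := fun j => pieceOf j.down.1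
  let Q : K → Piece f a := fun k => pieceOf k.2.2.down.1
  let s : K → J := fun k => k.1
  let t : K → J := fun k => k.2.1
  have hP : ∀ j, IsOpenImmersion (P j).ψ := fun j => isOpenImmersion_pieceOf _
  have hQ : ∀ k, IsOpenImmersion (Q k).ψ := fun k => isOpenImmersion_pieceOf _
  have hsub : ∀ k, Set.range (Q k).ψ ⊆ Set.range (P (s k)).ψ ∧ Set.range (Q k).ψ ⊆ Set.range (P (t k)).ψ := fun k => by
    rw [range_pieceOf, range_pieceOf, range_pieceOf]
    exact ⟨fun x hx => (htK _ _ _ k.2.2.down.2 hx).1, fun x hx => (htK _ _ _ k.2.2.down.2 hx).2⟩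
  choose rl hrl using fun k => haveI := hP (s k); exists_trans (P (s k)) (Q k) (hsub k).1
  choose rr hrr using fun k => haveI := hP (t k); exists_trans (P (t k)) (Q k) (hsub k).2
  have hgood : ∀ p : Piece f a, Good (pieceF M p) := fun p =>
    good_push (good_of_adequateMod_fppf T M hM p.A p.toT)
  refine good_of_joint (fun j => pieceF M (P j)) (fun j => hgood _) (fun k => pieceF M (Q k)) (fun k => hgood _) s t
    (fun k => trHom M (rl k) (hrl k)) (fun k => trHom M (rr k) (hrr k)) (fun j => uHom M (P j))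
    (fun k => (uHom_trHom M (rl k) (hrl k)).trans (uHom_trHom M (rr k) (hrr k)).symm) fun B => ?_
  have hcov : ∀ y : ((obY f a B).left :), ∃ j, y ∈ Set.range (kk (P j) B).left := fun y => by
    obtain ⟨V, hV, hyV⟩ := Set.mem_iUnion₂.1 (hsJ (Set.mem_univ (toX f a B y)))
    refine ⟨⟨⟨V, hV⟩⟩, (mem_range_kLeft_iff _ B y).2 ?_⟩
    rw [range_pieceOf]
    exact hyV
  have hg : ∀ j, IsOpenImmersion (kk (P j) B).left := fun j => isOpenImmersion_kLeft _ (hP j) B
  refine ⟨fun x hx => (evY M B).injective (Eq.trans ?_ (map_zero (evY M B)).symm), fun y hy => ?_⟩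
  · refine eq_zero_of_cover M _ (fun j => kk (P j) B) (generate_open_mem _ _ hg hcov) _ fun j => ?_
    exact (ap_uHom M (P j) B x).symm.trans ((congrArg _ (hx j)).trans (map_zero _))
  suffices h : ∃ x, ∀ j, rs M.val (kk (P j) B) x = evPc M (P j) B (y j) by
    obtain ⟨x, hx⟩ := h
    exact ⟨(evY M B).symm x, fun j => (evPc M (P j) B).injective
      ((ap_uHom M (P j) B _).trans ((congrArg _ (AddEquiv.apply_symm_apply _ _)).trans (hx j)))⟩
  refine glue_open M (fun j => obP (P j) B) (fun j => kk (P j) B) hg hcov (fun k => obP (Q k) B) s t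
    (fun k => mm (rl k) (hrl k) B) (fun k => mm (rr k) (hrr k) B)
    (fun k => by rw [kk_mm]; exact isOpenImmersion_kLeft _ (hQ k) B)
    (fun k => (kk_mm (rl k) (hrl k) B).trans (kk_mm (rr k) (hrr k) B).symm)
    (fun i j z hi hj => ?_) (fun j => evPc M (P j) B (y j)) fun k => ?_
  · rw [mem_range_kLeft_iff, range_pieceOf] at hi hj
    obtain ⟨U, hU, hzU⟩ := htK' i.down.1 j.down.1 (toX f a B z) ⟨hi, hj⟩
    refine ⟨⟨i, j, ⟨⟨U, hU⟩⟩⟩, rfl, rfl, ?_⟩
    rw [kk_mm, mem_range_kLeft_iff, range_pieceOf]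
    exact hzU
  · exact (ap_trHom M (rl k) (hrl k) B _).symm.trans ((congrArg (evPc M (Q k) B) (hy k)).trans (ap_trHom M (rr k) (hrr k) B _))

theorem adequateMod_pushMod (f : T ⟶ S) [QuasiCompact f] [QuasiSeparated f]
    (hM : Adeq.adequateMod Scheme.fppfPrecoverage T M) :
    Adeq.adequateMod Scheme.fppfPrecoverage S ((BigSite.pushMod Scheme.fppfPrecoverage f).obj M) :=
  adequateMod_of_good _ fun R a => good_pushMod M hM R a

end Groth.Agent.Adeq2Lib
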