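import Groth.Agent.Adeq2Lib.Local
import Groth.Agent.AdeqFound.Exact

/-!
# Refining coverings of affine objects, comparison with locally isomorphic sheaves
-/

set_option autoImplicit false

universe u

open CategoryTheory Limits AlgebraicGeometry Opposite TensorProduct

namespace Groth.Agent.Adeq2Lib

open Groth.Agent.AdeqFound

variable {P : MorphismProperty Scheme.{u}} [P.IsStableUnderBaseChange] [P.IsMultiplicative] {S : Scheme.{u}}

theorem exists_refine (hloc : LocalProp P) {R : CommRingCat.{u}} (a : Spec R ⟶ S) (σ : Sieve (Over.mk a))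
    (hσ : σ ∈ QuotSh.J (Scheme.precoverage P) S (Over.mk a)) :
    ∃ (J : Type u) (_ : Fintype J) (A' : J → CommRingCat.{u}) (φ : ∀ j, R ⟶ A' j),
      (∀ j, P (Spec.map (φ j))) ∧ (∀ x, ∃ j, x ∈ Set.range (Spec.map (φ j))) ∧
        ∀ j, σ (Over.homMk (Spec.map (φ j)) rfl : Over.mk (Spec.map (φ j) ≫ a) ⟶ Over.mk a) := by
  have hσ' : Sieve.overEquiv (Over.mk a) σ ∈ (Scheme.precoverage P).toGrothendieck (Spec R) := hσ
  rw [Precoverage.mem_toGrothendieck_iff_of_isStableUnderComposition] at hσ'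
  obtain ⟨T, hT, hTσ⟩ := hσ'
  obtain ⟨ι, X, f, rfl⟩ := T.exists_eq_ofArrows
  rw [Scheme.ofArrows_mem_precoverage_iff] at hT
  have key : ∀ x : Spec R, ∃ (A' : CommRingCat.{u}) (φ : R ⟶ A'), P (Spec.map φ) ∧ x ∈ Set.range (Spec.map φ) ∧
      σ (Over.homMk (Spec.map φ) rfl : Over.mk (Spec.map φ ≫ a) ⟶ Over.mk a) := by
    intro x
    obtain ⟨i, y, hy⟩ := hT.1 x
    obtain ⟨W, hW, hyW, -⟩ := exists_isAffineOpen_mem_and_subset (TopologicalSpace.Opens.mem_top y)
    refine ⟨_, Spec.preimage (hW.fromSpec ≫ f i), ?_, ?_, ?_⟩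
    · rw [Spec.map_preimage]
      exact P.comp_mem _ _ (hloc.of_openImmersion _) (hT.2 i)
    · rw [Spec.map_preimage]
      obtain ⟨w, hw⟩ : y ∈ Set.range hW.fromSpec := by rw [hW.range_fromSpec]; exact hyW
      exact ⟨w, by rw [Scheme.Hom.comp_apply, hw, hy]⟩
    · have h1 : σ (Over.homMk (f i) : Over.mk (f i ≫ a) ⟶ Over.mk a) :=
        (Sieve.overEquiv_iff σ (f i)).1 (hTσ _ _ (Presieve.ofArrows.mk i))
      have h2 := σ.downward_closed h1 (Over.homMk hW.fromSpec
        (by show hW.fromSpec ≫ f i ≫ a = _ ≫ a; rw [Spec.map_preimage, Category.assoc]) :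
          Over.mk (Spec.map (Spec.preimage (hW.fromSpec ≫ f i)) ≫ a) ⟶ Over.mk (f i ≫ a))
      convert h2 using 1
      ext1
      exact Spec.map_preimage _
  choose A' φ hφ hx hφσ using key
  obtain ⟨t, ht⟩ := isCompact_univ.elim_finite_subcover (fun x : Spec R => Set.range (Spec.map (φ x)))
    (fun x => (hloc.isOpenMap _ (hφ x)).isOpen_range) (fun x _ => Set.mem_iUnion.2 ⟨x, hx x⟩)
  refine ⟨↥t, inferInstance, fun j => A' j.1, fun j => φ j.1, fun j => hφ j.1, fun x => ?_, fun j => hφσ j.1⟩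
  obtain ⟨y, hy, hxy⟩ := Set.mem_iUnion₂.1 (ht (Set.mem_univ x))
  exact ⟨⟨y, hy⟩, hxy⟩

theorem faithfullyFlat_of_cover (hflat : P ≤ @Flat) {R : CommRingCat.{u}} {J : Type u} [Fintype J]
    (A' : J → CommRingCat.{u}) (φ : ∀ j, R ⟶ A' j) (hP : ∀ j, P (Spec.map (φ j)))
    (hs : ∀ x, ∃ j, x ∈ Set.range (Spec.map (φ j))) :
    letI : ∀ j, Algebra R (A' j) := fun j => (φ j).hom.toAlgebra
    Module.FaithfullyFlat R (∀ j, A' j) := by
  letI : ∀ j, Algebra R (A' j) := fun j => (φ j).hom.toAlgebra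
  haveI : ∀ j, Module.Flat R (A' j) := fun j => (HasRingHomProperty.Spec_iff (P := @Flat)).1 (hflat _ (hP j))
  exact faithfullyFlat_pi (fun j => (A' j : Type u)) fun p => hs p

variable [BigSite.OSh (Scheme.precoverage P)]
  (Q : PresheafOfModules.{u + 1} (BigSite.ORing (Scheme.precoverage P) S).obj)

/-- The object of the base algebra. -/
noncomputable def baseIso {R : CommRingCat.{u}} (a : Spec R ⟶ S) :
    (Adeq.specOver a).obj (op (Adeq.algOf R R)) ≅ Over.mk a :=
  Over.isoMk (Iso.refl _) (by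
    show 𝟙 _ ≫ a = Spec.map (CommRingCat.ofHom (RingHom.id R)) ≫ a
    rw [CommRingCat.ofHom_id, Spec.map_id]; rfl)

theorem ofBase_comp {R : CommRingCat.{u}} (a : Spec R ⟶ S) {A' : CommRingCat.{u}} (φ : R ⟶ A') :
    letI : Algebra R A' := φ.hom.toAlgebra
    (Adeq.specOver a).map (ofBase (A := R) A').op ≫ (baseIso a).hom =
      (Over.homMk (Spec.map φ) rfl : Over.mk (Spec.map φ ≫ a) ⟶ Over.mk a) := by
  letI : Algebra R A' := φ.hom.toAlgebra
  ext1
  show Spec.map (CommRingCat.ofHom (Algebra.ofId R A').toRingHom) ≫ 𝟙 _ = Spec.map φ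
  rw [Category.comp_id]
  exact congrArg Spec.map (CommRingCat.hom_ext (RingHom.ext fun r => rfl))

theorem injective_of_locallyInjective (hloc : LocalProp P) (hflat : P ≤ @Flat)
    (hgood : ∀ (R : CommRingCat.{u}) (a : Spec R ⟶ S), Good ((Adeq.toMVFPre (Scheme.precoverage P) a).obj Q))
    {R : CommRingCat.{u}} (a : Spec R ⟶ S) (x : Q.obj (op (Over.mk a)))
    (hx : ∃ σ ∈ QuotSh.J (Scheme.precoverage P) S (Over.mk a), ∀ ⦃W : Over S⦄ (g : W ⟶ Over.mk a), σ g → rs Q g x = 0) :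
    x = 0 := by
  obtain ⟨σ, hσ, hσx⟩ := hx
  obtain ⟨J, _, A', φ, hP, hs, hJ⟩ := exists_refine hloc a σ hσ
  letI : ∀ j, Algebra R (A' j) := fun j => (φ j).hom.toAlgebra
  haveI := faithfullyFlat_of_cover hflat A' φ hP hs
  have h0 : (evS Q a (Adeq.algOf R R)).symm (rs Q (baseIso a).hom x) = 0 :=
    (hgood R a).family_injective (fun j => (A' j : Type u)) _ fun j => (evS Q a _).injective (by
      rw [evS_mp, AddEquiv.apply_symm_apply, rs_comp, ofBase_comp, map_zero]
      exact hσx _ (hJ j))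
  rw [AddEquiv.map_eq_zero_iff] at h0
  have := congrArg (rs Q (baseIso a).inv) h0
  rwa [rs_comp, Iso.inv_hom_id, rs_id, map_zero] at this

theorem bijective_app (hloc : LocalProp P) (hflat : P ≤ @Flat)
    (hgood : ∀ (R : CommRingCat.{u}) (a : Spec R ⟶ S), Good ((Adeq.toMVFPre (Scheme.precoverage P) a).obj Q))
    (M : BigSite.Mod (Scheme.precoverage P) S) (η : Q ⟶ M.val)
    (hinj : ∀ (U : Over S) (x : Q.obj (op U)), η.app (op U) x = 0 →
      ∃ σ ∈ QuotSh.J (Scheme.precoverage P) S U, ∀ ⦃W : Over S⦄ (g : W ⟶ U), σ g → rs Q g x = 0)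
    (hsurj : ∀ (U : Over S) (y : M.val.obj (op U)),
      ∃ σ ∈ QuotSh.J (Scheme.precoverage P) S U, ∀ ⦃W : Over S⦄ (g : W ⟶ U), σ g → ∃ x, η.app (op W) x = rs M.val g y)
    {R : CommRingCat.{u}} (a : Spec R ⟶ S) : Function.Bijective (η.app (op (Over.mk a))) := by
  have hinj' : ∀ (R : CommRingCat.{u}) (a : Spec R ⟶ S) (x : Q.obj (op (Over.mk a))),
      η.app (op (Over.mk a)) x = 0 → x = 0 := fun R a x hx =>
    injective_of_locallyInjective Q hloc hflat hgood a x (hinj _ x hx)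
  have hnat : ∀ {U V : Over S} (g : U ⟶ V) (x : Q.obj (op V)), η.app (op U) (rs Q g x) = rs M.val g (η.app (op V) x) :=
    fun g x => PresheafOfModules.naturality_apply η g.op x
  refine ⟨(injective_iff_map_eq_zero (η.app (op (Over.mk a))).hom).2 (hinj' R a), fun y => ?_⟩
  obtain ⟨σ, hσ, hσy⟩ := hsurj _ y
  obtain ⟨J, _, A', φ, hP, hs, hJ⟩ := exists_refine hloc a σ hσ
  letI : ∀ j, Algebra R (A' j) := fun j => (φ j).hom.toAlgebra
  haveI := faithfullyFlat_of_cover hflat A' φ hP hs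
  choose x hx using fun j => hσy _ (hJ j)
  let xv : ∀ j, ((Adeq.toMVFPre (Scheme.precoverage P) a).obj Q).obj (Adeq.pt (Adeq.algOf R (A' j))) := fun j =>
    (evS Q a (Adeq.algOf R (A' j))).symm (x j)
  obtain ⟨z, hz⟩ := (hgood R a).family_glue (fun j => (A' j : Type u)) xv fun j k => by
    refine (evS Q a _).injective ?_
    rw [evS_mp, evS_mp, ← sub_eq_zero]
    refine hinj' (CommRingCat.of ((A' j : Type u) ⊗[R] (A' k : Type u)))
      (Spec.map (CommRingCat.ofHom (algebraMap R ((A' j : Type u) ⊗[R] (A' k : Type u)))) ≫ a) _ ?_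
    refine (map_sub (η.app (op ((Adeq.specOver a).obj (op (Adeq.algOf R ((A' j : Type u) ⊗[R] (A' k : Type u))))))).hom _ _).trans ?_
    refine sub_eq_zero.2 ?_
    refine (hnat _ _).trans (Eq.trans ?_ (hnat _ _).symm)
    simp only [xv, AddEquiv.apply_symm_apply]
    refine (congrArg (rs M.val _) (hx j)).trans (Eq.trans ?_ (congrArg (rs M.val _) (hx k)).symm)
    refine (rs_comp M.val _ _ y).trans (Eq.trans ?_ (rs_comp M.val _ _ y).symm)
    refine congrArg (fun w => rs M.val w y) ?_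
    ext1
    show Spec.map _ ≫ Spec.map (φ j) = Spec.map _ ≫ Spec.map (φ k)
    rw [← Spec.map_comp, ← Spec.map_comp]
    refine congrArg Spec.map (CommRingCat.hom_ext (RingHom.ext fun r => ?_))
    show algebraMap R (A' j : Type u) r ⊗ₜ[R] (1 : (A' k : Type u)) = (1 : (A' j : Type u)) ⊗ₜ[R] algebraMap R (A' k : Type u) r
    rw [Algebra.algebraMap_eq_smul_one, Algebra.algebraMap_eq_smul_one, TensorProduct.smul_tmul]
  refine ⟨rs Q (baseIso a).inv (evS Q a _ z), ?_⟩
  rw [← sub_eq_zero]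
  have hcov : Sieve.generate (Presieve.ofArrows (fun j => Spec (A' j)) fun j => Spec.map (φ j)) ∈
      (Scheme.precoverage P).toGrothendieck (Spec R) :=
    Precoverage.generate_mem_toGrothendieck (by rw [Scheme.ofArrows_mem_precoverage_iff]; exact ⟨hs, hP⟩)
  refine eq_zero_of_cover M (fun j => Over.mk (Spec.map (φ j) ≫ a))
    (fun j => (Over.homMk (Spec.map (φ j)) rfl : Over.mk (Spec.map (φ j) ≫ a) ⟶ Over.mk a)) hcov _ fun j => ?_
  rw [map_sub, sub_eq_zero, ← hnat, rs_comp, ← hx j]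
  refine congrArg (η.app _) ?_
  have h1 := congrArg (evS Q a _) (hz j)
  simp only [evS_mp, xv, AddEquiv.apply_symm_apply] at h1
  rw [← h1]
  refine congrArg (fun w => rs Q w (evS Q a _ z)) ?_
  rw [← ofBase_comp]
  exact (Category.assoc _ _ _).trans ((congrArg (fun w => _ ≫ w) (baseIso a).hom_inv_id).trans (Category.comp_id _))

end Groth.Agent.Adeq2Lib
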