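import Groth.Prelude.Def_Adeq2
import Groth.Agent.AdeqFound.Family
import Mathlib.CategoryTheory.Sites.SheafOfTypes

/-!
# Sections of modules on the big site over affine schemes
-/

set_option autoImplicit false

universe u w

open CategoryTheory Limits AlgebraicGeometry Opposite

namespace Groth.Agent.Adeq2Lib

open Groth.Agent.AdeqFound

theorem good_of_equiv {A : Type u} [CommRing A] {F G : Adeq.MVF A}
    (e : ∀ B : Adeq.Alg A, F.obj (Adeq.pt B) ≃+ G.obj (Adeq.pt B))
    (hsmul : ∀ (B : Adeq.Alg A) (c : (B : Type u)) (x : F.obj (Adeq.pt B)), e B (c • x) = c • e B x)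
    (hnat : ∀ {B C : Adeq.Alg A} (f : B ⟶ C) (x : F.obj (Adeq.pt B)), e C (mp F f x) = mp G f (e B x)) (hF : Good F) : Good G := by
  let φ : F ⟶ G := mkHom (fun B => { toFun := e B, map_add' := map_add (e B), map_smul' := hsmul B }) hnat
  haveI : IsIso φ := isIso_of_bijective φ fun B => (e B).bijective
  exact good_iff.2 ((Adeq.adequate A).prop_of_iso (asIso φ) (good_iff.1 hF))

variable {K : Precoverage Scheme.{u}} [BigSite.OSh K] {S : Scheme.{u}}

section Res

variable (P : PresheafOfModules.{u + 1} (BigSite.ORing K S).obj)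

/-- Restriction of sections. -/
noncomputable def rs {U V : Over S} (g : U ⟶ V) : P.obj (op V) →+ P.obj (op U) where
  toFun x := P.map g.op x
  map_zero' := map_zero (P.map g.op).hom
  map_add' := map_add (P.map g.op).hom

theorem rs_comp {U V W : Over S} (f : U ⟶ V) (g : V ⟶ W) (x : P.obj (op W)) : rs P f (rs P g x) = rs P (f ≫ g) x :=
  (P.map_comp_apply g.op f.op x).symm

theorem rs_id {U : Over S} (x : P.obj (op U)) : rs P (𝟙 U) x = x := by
  show P.map (𝟙 (op U)) x = x
  rw [P.map_id]; rfl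

theorem rs_smul {U V : Over S} (g : U ⟶ V) (c : (BigSite.ORing K S).obj.obj (op V)) (x : P.obj (op V)) :
    rs P g (c • x) = (BigSite.ORing K S).obj.map g.op c • rs P g x :=
  PresheafOfModules.map_smul P g.op c x

/-- Isomorphic objects have the same sections. -/
noncomputable def rsEquiv {U V : Over S} (e : U ≅ V) : P.obj (op V) ≃+ P.obj (op U) :=
  { rs P e.hom with
    invFun := rs P e.inv
    left_inv := fun x => by
      show rs P e.inv (rs P e.hom x) = x
      rw [rs_comp, e.inv_hom_id, rs_id]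
    right_inv := fun x => by
      show rs P e.hom (rs P e.inv x) = x
      rw [rs_comp, e.hom_inv_id, rs_id] }

theorem rsEquiv_apply {U V : Over S} (e : U ≅ V) (x : P.obj (op V)) : rsEquiv P e x = rs P e.hom x := rfl

variable {R : CommRingCat.{u}} (a : Spec R ⟶ S)

/-- Sections as values of the functor. -/
noncomputable def evS (B : Adeq.Alg R) :
    ((Adeq.toMVFPre K a).obj P).obj (Adeq.pt B) ≃+ P.obj (op ((Adeq.specOver a).obj (op B))) :=
  { toFun := fun x => x, invFun := fun x => x, left_inv := fun _ => rfl, right_inv := fun _ => rfl,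
    map_add' := fun _ _ => rfl }

theorem evS_smul (B : Adeq.Alg R) (c : (B : Type u)) (x : ((Adeq.toMVFPre K a).obj P).obj (Adeq.pt B)) :
    evS P a B (c • x) = Adeq.toSect K a B c • evS P a B x := rfl

theorem evS_mp {B C : Adeq.Alg R} (f : B ⟶ C) (x : ((Adeq.toMVFPre K a).obj P).obj (Adeq.pt B)) :
    evS P a C (mp ((Adeq.toMVFPre K a).obj P) f x) = rs P ((Adeq.specOver a).map f.op) (evS P a B x) := rfl

end Res

section Compare

variable (P : PresheafOfModules.{u + 1} (BigSite.ORing K S).obj) {R R' : CommRingCat.{u}}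
  (a : Spec R ⟶ S) (a' : Spec R' ⟶ S) [Algebra R R'] (h : Spec.map (CommRingCat.ofHom (algebraMap R R')) ≫ a = a')

/-- The two objects over `S` of an algebra. -/
noncomputable def objIso (B : Adeq.Alg R') :
    (Adeq.specOver a).obj (op ((Adeq.Alg.restr R R').obj B)) ≅ (Adeq.specOver a').obj (op B) :=
  Over.isoMk (Iso.refl _) (by
    show 𝟙 _ ≫ Spec.map (CommRingCat.ofHom (algebraMap R' B)) ≫ a' =
      Spec.map (CommRingCat.ofHom ((algebraMap R' B).comp (algebraMap R R'))) ≫ a
    rw [Category.id_comp, ← h, ← Spec.map_comp_assoc, ← CommRingCat.ofHom_comp])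

include h in
theorem good_restr_iff :
    Good ((Adeq.restr R R').obj ((Adeq.toMVFPre K a).obj P)) ↔ Good ((Adeq.toMVFPre K a').obj P) := by
  let e : ∀ B : Adeq.Alg R', ((Adeq.toMVFPre K a').obj P).obj (Adeq.pt B) ≃+
      ((Adeq.restr R R').obj ((Adeq.toMVFPre K a).obj P)).obj (Adeq.pt B) := fun B =>
    (evS P a' B).trans ((rsEquiv P (objIso a a' h B)).trans ((evS P a _).symm.trans (evR _ B).symm))
  have hsmul : ∀ (B : Adeq.Alg R') (c : B) x, e B (c • x) = c • e B x := by
    intro B c x
    refine (evR _ B).injective ((evS P a _).injective ?_)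
    show rs P (objIso a a' h B).hom (evS P a' B (c • x)) = evS P a _ ((c : ((Adeq.Alg.restr R R').obj B : Type u)) •
      (evS P a _).symm (rs P (objIso a a' h B).hom (evS P a' B x)))
    rw [evS_smul, rs_smul, evS_smul, AddEquiv.apply_symm_apply]
    refine congrArg (· • _) (ULift.ext _ _ ?_)
    show (Scheme.Hom.appTop (𝟙 (Spec (CommRingCat.of B)))) ((Scheme.ΓSpecIso (CommRingCat.of B)).inv c) =
      (Scheme.ΓSpecIso (CommRingCat.of B)).inv c
    rw [Scheme.Hom.id_appTop]; rfl
  have hnat : ∀ {B C : Adeq.Alg R'} (f : B ⟶ C) x, e C (mp _ f x) = mp _ f (e B x) := by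
    intro B C f x
    refine (evR _ C).injective ((evS P a _).injective ?_)
    rw [evR_mp, evS_mp]
    show rs P (objIso a a' h C).hom (evS P a' C (mp _ f x)) = rs P ((Adeq.specOver a).map ((Adeq.Alg.restr R R').map f).op)
      (rs P (objIso a a' h B).hom (evS P a' B x))
    rw [evS_mp, rs_comp, rs_comp]
    refine congrArg (fun w => rs P w (evS P a' B x)) ?_
    ext1
    show 𝟙 _ ≫ Spec.map (CommRingCat.ofHom f.hom.toRingHom) = Spec.map (CommRingCat.ofHom f.hom.toRingHom) ≫ 𝟙 _
    simp
  exact ⟨good_of_equiv (fun B => (e B).symm) (fun B c x => (e B).injective (by rw [hsmul, AddEquiv.apply_symm_apply, AddEquiv.apply_symm_apply]))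
    (fun {B C} f x => (e C).injective (by rw [hnat, AddEquiv.apply_symm_apply, AddEquiv.apply_symm_apply])),
    good_of_equiv e hsmul hnat⟩

end Compare

section Sheaf

variable (M : BigSite.Mod K S)

theorem isSheafFor {I : Type w} {Y : Over S} (Z : I → Over S) (g : ∀ i, Z i ⟶ Y)
    (h : Sieve.generate (Presieve.ofArrows (fun i => (Z i).left) fun i => (g i).left) ∈ K.toGrothendieck Y.left) :
    Presieve.IsSheafFor (((BigSite.toAbMod K S).obj M).obj ⋙ CategoryTheory.forget AddCommGrpCat.{u + 1}) (Presieve.ofArrows Z g) := by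
  have hM := (Presheaf.isSheaf_iff_isSheaf_forget (QuotSh.J K S) _ (CategoryTheory.forget AddCommGrpCat.{u + 1})).1
    ((BigSite.toAbMod K S).obj M).property
  rw [isSheaf_iff_isSheaf_of_type] at hM
  rw [Presieve.isSheafFor_iff_generate]
  refine hM _ ?_
  show Sieve.overEquiv Y (Sieve.ofArrows Z g) ∈ K.toGrothendieck Y.left
  rw [Sieve.overEquiv_ofArrows]
  exact h

theorem eq_zero_of_cover {I : Type w} {Y : Over S} (Z : I → Over S) (g : ∀ i, Z i ⟶ Y)
    (h : Sieve.generate (Presieve.ofArrows (fun i => (Z i).left) fun i => (g i).left) ∈ K.toGrothendieck Y.left)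
    (x : M.val.obj (op Y)) (hx : ∀ i, rs M.val (g i) x = 0) : x = 0 := by
  refine ((isSheafFor M Z g h).isSeparatedFor).ext (P := _) fun W w hw => ?_
  obtain ⟨i⟩ := hw
  exact (hx i).trans (map_zero (rs M.val (g i))).symm

theorem glue {I : Type w} {Y : Over S} (Z : I → Over S) (g : ∀ i, Z i ⟶ Y)
    (h : Sieve.generate (Presieve.ofArrows (fun i => (Z i).left) fun i => (g i).left) ∈ K.toGrothendieck Y.left)
    (y : ∀ i, M.val.obj (op (Z i)))
    (hy : ∀ i j (W : Over S) (p : W ⟶ Z i) (q : W ⟶ Z j), p ≫ g i = q ≫ g j → rs M.val p (y i) = rs M.val q (y j)) :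
    ∃ x, ∀ i, rs M.val (g i) x = y i :=
  ((Presieve.isSheafFor_arrows_iff _ _).1 (isSheafFor M Z g h) y hy).exists

end Sheaf

end Groth.Agent.Adeq2Lib
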