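import Groth.Agent.Adeq2Lib.Refine
import Mathlib.Algebra.Category.ModuleCat.Sheaf.Abelian
import Mathlib.Algebra.Category.ModuleCat.Sheaf.Colimits
import Mathlib.Algebra.Category.ModuleCat.Presheaf.Colimits
import Mathlib.CategoryTheory.Limits.Preserves.Shapes.Kernels

/-!
# Operations on adequate modules
-/

set_option autoImplicit false

universe u

open CategoryTheory Limits AlgebraicGeometry Opposite TensorProduct

namespace Groth.Agent.Adeq2Lib

open Groth.Agent.AdeqFound

/-- The property defining the fppf site. -/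
abbrev Pfppf : MorphismProperty Scheme.{u} := @Flat ⊓ @LocallyOfFinitePresentation

instance : (Pfppf : MorphismProperty Scheme.{u}).IsMultiplicative where
  id_mem _ := ⟨inferInstance, inferInstance⟩
  comp_mem f g hf hg := by
    obtain ⟨_, _⟩ := hf
    obtain ⟨_, _⟩ := hg
    exact ⟨inferInstance, inferInstance⟩

theorem pfppf_le_flat : (Pfppf : MorphismProperty Scheme.{u}) ≤ @Flat := fun _ _ _ h => h.1

instance : BigSite.OSh (Scheme.precoverage (Pfppf : MorphismProperty Scheme.{u})) :=
  inferInstanceAs (BigSite.OSh Scheme.fppfPrecoverage)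

variable {S : Scheme.{u}}

/-- The presheaf of modules underlying a module. -/
noncomputable abbrev pre {K : Precoverage Scheme.{u}} [BigSite.OSh K] (M : BigSite.Mod K S) :
    PresheafOfModules.{u + 1} (BigSite.ORing K S).obj := M.val

theorem adequateMod_of_good (M : BigSite.Mod Scheme.fppfPrecoverage S)
    (h : ∀ (R : CommRingCat.{u}) (a : Spec R ⟶ S), Good ((Adeq.toMVF Scheme.fppfPrecoverage a).obj M)) :
    Adeq.adequateMod Scheme.fppfPrecoverage S M := by
  refine ⟨S.affineOpens, fun W => Γ(S, W.1), fun W => W.2.fromSpec, ?_, fun W => good_iff.1 (h _ _)⟩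
  show Presieve.ofArrows _ _ ∈ (Scheme.precoverage Pfppf).coverings S
  rw [Scheme.ofArrows_mem_precoverage_iff]
  refine ⟨fun x => ?_, fun W => ⟨inferInstance, inferInstance⟩⟩
  obtain ⟨W, hW, hxW, -⟩ := exists_isAffineOpen_mem_and_subset (TopologicalSpace.Opens.mem_top x)
  exact ⟨⟨W, hW⟩, by rw [hW.range_fromSpec]; exact hxW⟩

theorem isIso_toMVFPre_map (Q : PresheafOfModules.{u + 1} (BigSite.ORing Scheme.fppfPrecoverage S).obj)
    (hgood : ∀ (R : CommRingCat.{u}) (a : Spec R ⟶ S), Good ((Adeq.toMVFPre Scheme.fppfPrecoverage a).obj Q))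
    (M : BigSite.Mod Scheme.fppfPrecoverage S) (η : Q ⟶ M.val)
    [Presheaf.IsLocallyInjective (QuotSh.J Scheme.fppfPrecoverage S) ((PresheafOfModules.toPresheaf _).map η)]
    [Presheaf.IsLocallySurjective (QuotSh.J Scheme.fppfPrecoverage S) ((PresheafOfModules.toPresheaf _).map η)]
    (R : CommRingCat.{u}) (a : Spec R ⟶ S) : IsIso ((Adeq.toMVFPre Scheme.fppfPrecoverage a).map η) := by
  refine isIso_of_bijective _ fun B => ?_
  have h := bijective_app (P := Pfppf) Q localProp_fppf pfppf_le_flat hgood M η (fun U x hx => ?_) (fun U y => ?_)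
    (R := CommRingCat.of (B : Type u)) (Spec.map (CommRingCat.ofHom (algebraMap R (B : Type u))) ≫ a)
  · exact h
  · refine ⟨_, Presheaf.equalizerSieve_mem (QuotSh.J Scheme.fppfPrecoverage S) ((PresheafOfModules.toPresheaf _).map η)
      (X := op U) x 0 (hx.trans (map_zero _).symm), fun W g hg => ?_⟩
    exact hg.trans (map_zero (rs Q g))
  · let y' : ToType (((PresheafOfModules.toPresheaf (BigSite.ORing Scheme.fppfPrecoverage S).obj).obj M.val).obj (op U)) := y
    exact ⟨_, Presheaf.imageSieve_mem (QuotSh.J Scheme.fppfPrecoverage S) ((PresheafOfModules.toPresheaf _).map η) (U := op U) y',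
      fun W g hg => hg⟩

/-- Sheafification of presheaves of modules on the fppf site. -/
noncomputable abbrev aMod (S : Scheme.{u}) :
    PresheafOfModules.{u + 1} (BigSite.ORing Scheme.fppfPrecoverage S).obj ⥤ BigSite.Mod Scheme.fppfPrecoverage S :=
  PresheafOfModules.sheafification (𝟙 (BigSite.ORing Scheme.fppfPrecoverage S).obj)

theorem good_sheafification (Q : PresheafOfModules.{u + 1} (BigSite.ORing Scheme.fppfPrecoverage S).obj)
    (hgood : ∀ (R : CommRingCat.{u}) (a : Spec R ⟶ S), Good ((Adeq.toMVFPre Scheme.fppfPrecoverage a).obj Q))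
    (R : CommRingCat.{u}) (a : Spec R ⟶ S) :
    Good ((Adeq.toMVF Scheme.fppfPrecoverage a).obj ((aMod S).obj Q)) := by
  let η : Q ⟶ ((aMod S).obj Q).val :=
    (PresheafOfModules.sheafificationAdjunction (𝟙 (BigSite.ORing Scheme.fppfPrecoverage S).obj)).unit.app Q
  haveI : Presheaf.IsLocallyInjective (QuotSh.J Scheme.fppfPrecoverage S) ((PresheafOfModules.toPresheaf _).map η) :=
    inferInstanceAs (Presheaf.IsLocallyInjective (QuotSh.J Scheme.fppfPrecoverage S)
      (CategoryTheory.toSheafify (QuotSh.J Scheme.fppfPrecoverage S) Q.presheaf))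
  haveI : Presheaf.IsLocallySurjective (QuotSh.J Scheme.fppfPrecoverage S) ((PresheafOfModules.toPresheaf _).map η) :=
    inferInstanceAs (Presheaf.IsLocallySurjective (QuotSh.J Scheme.fppfPrecoverage S)
      (CategoryTheory.toSheafify (QuotSh.J Scheme.fppfPrecoverage S) Q.presheaf))
  exact good_iff.2 ((Adeq.adequate R).prop_of_iso (@asIso _ _ _ _ _ (isIso_toMVFPre_map Q hgood _ η R a))
    (good_iff.1 (hgood R a)))

instance {K : Precoverage Scheme.{u}} [BigSite.OSh K] {R : CommRingCat.{u}} (a : Spec R ⟶ S) {I : Type (u + 1)}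
    [SmallCategory I] : PreservesColimitsOfShape I (Adeq.toMVFPre K a) := by
  haveI : PreservesColimitsOfShape I (Adeq.toMVFPre K a ⋙ PresheafOfModules.toPresheaf.{u + 1} (Adeq.ringOf R)) := by
    refine preservesColimitsOfShape_of_natIso (F := PresheafOfModules.toPresheaf.{u + 1} (BigSite.ORing K S).obj ⋙
      (Functor.whiskeringLeft _ _ AddCommGrpCat.{u + 1}).obj (Adeq.specOver a).op) (Iso.refl _)
  haveI : (PresheafOfModules.toPresheaf.{u + 1} (Adeq.ringOf R)).ReflectsIsomorphisms :=
    reflectsIsomorphisms_of_reflectsMonomorphisms_of_reflectsEpimorphisms _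
  haveI : ReflectsColimitsOfShape I (PresheafOfModules.toPresheaf.{u + 1} (Adeq.ringOf R)) :=
    reflectsColimitsOfShape_of_reflectsIsomorphisms
  exact preservesColimitsOfShape_of_reflects_of_preserves (Adeq.toMVFPre K a)
    (PresheafOfModules.toPresheaf.{u + 1} (Adeq.ringOf R))

theorem good_colimit_mod {I : Type (u + 1)} [SmallCategory I] (D : I ⥤ BigSite.Mod Scheme.fppfPrecoverage S)
    (hD : ∀ i, Adeq.adequateMod Scheme.fppfPrecoverage S (D.obj i)) :
    Adeq.adequateMod Scheme.fppfPrecoverage S (colimit D) := by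
  let adj := PresheafOfModules.sheafificationAdjunction (𝟙 (BigSite.ORing Scheme.fppfPrecoverage S).obj)
  let D₀ := D ⋙ SheafOfModules.forget _ ⋙
    PresheafOfModules.restrictScalars (𝟙 (BigSite.ORing Scheme.fppfPrecoverage S).obj)
  haveI : PreservesColimit D₀ (aMod S) := adj.leftAdjoint_preservesColimits.preservesColimitsOfShape.preservesColimit
  let e : colimit D ≅ (aMod S).obj (colimit D₀) :=
    HasColimit.isoOfNatIso (Functor.isoWhiskerLeft D (asIso adj.counit).symm) ≪≫ (preservesColimitIso (aMod S) D₀).symm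
  refine (Adeq.adequateMod _ S).prop_of_iso e.symm (adequateMod_of_good _ (good_sheafification _ fun R a => ?_))
  refine good_iff.2 ((Adeq.adequate R).prop_of_iso (preservesColimitIso (Adeq.toMVFPre Scheme.fppfPrecoverage a) D₀).symm
    (good_iff.1 (good_colimit _ fun i => ?_)))
  exact good_of_adequateMod_fppf S (D.obj i) (hD i) R a

theorem good_cokernel_mod {M N : BigSite.Mod Scheme.fppfPrecoverage S} (φ : M ⟶ N)
    (hM : Adeq.adequateMod Scheme.fppfPrecoverage S M) (hN : Adeq.adequateMod Scheme.fppfPrecoverage S N) :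
    Adeq.adequateMod Scheme.fppfPrecoverage S (cokernel φ) := by
  let adj := PresheafOfModules.sheafificationAdjunction (𝟙 (BigSite.ORing Scheme.fppfPrecoverage S).obj)
  haveI : PreservesColimit (parallelPair φ.val 0) (aMod S) :=
    adj.leftAdjoint_preservesColimits.preservesColimitsOfShape.preservesColimit
  let c : ∀ X : BigSite.Mod Scheme.fppfPrecoverage S, (aMod S).obj X.val ≅ X := fun X => (asIso adj.counit).app X
  let e : cokernel φ ≅ (aMod S).obj (cokernel φ.val) :=
    cokernel.mapIso φ ((aMod S).map φ.val) (c M).symm (c N).symm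
      ((asIso adj.counit).inv.naturality φ) ≪≫ (PreservesCokernel.iso (aMod S) φ.val).symm
  refine (Adeq.adequateMod _ S).prop_of_iso e.symm (adequateMod_of_good _ (good_sheafification _ fun R a => ?_))
  let T := Adeq.toMVFPre Scheme.fppfPrecoverage a
  let π := T.map (cokernel.π φ.val)
  haveI : Epi π := by
    haveI : Epi (T.map (cokernel.π φ.val)) := by
      refine PresheafOfModules.epi_of_surjective fun X => ?_
      exact PresheafOfModules.surjective_of_epi (cokernel.π φ.val) _
    exact this
  refine good_of_cokernel (good_of_adequateMod_fppf S M hM R a) (good_of_adequateMod_fppf S N hN R a) (T.map φ.val) π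
    (ap_surj_of_epi π) fun B x => ?_
  have hex := ShortComplex.exact_cokernel φ.val
  haveI : (PresheafOfModules.evaluation.{u + 1} (BigSite.ORing Scheme.fppfPrecoverage S).obj
    (op ((Adeq.specOver a).obj (op B)))).Additive := ⟨fun {_ _ _ _} => rfl⟩
  haveI : PreservesFiniteLimits (PresheafOfModules.evaluation.{u + 1} (BigSite.ORing Scheme.fppfPrecoverage S).obj
    (op ((Adeq.specOver a).obj (op B)))) := ⟨fun _ _ _ => ⟨fun {F} => PresheafOfModules.evaluation_preservesLimit F _⟩⟩
  haveI : PreservesFiniteColimits (PresheafOfModules.evaluation.{u + 1} (BigSite.ORing Scheme.fppfPrecoverage S).obj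
    (op ((Adeq.specOver a).obj (op B)))) := ⟨fun _ _ _ => ⟨fun {F} => PresheafOfModules.evaluation_preservesColimit F _⟩⟩
  exact (ShortComplex.ShortExact.moduleCat_exact_iff_function_exact _).1
    (hex.map (PresheafOfModules.evaluation.{u + 1} _ (op ((Adeq.specOver a).obj (op B))))) x

end Groth.Agent.Adeq2Lib
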