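import Groth.Prelude.Def_EtZar
import Mathlib.CategoryTheory.Sites.SheafCohomology.Basic
import Mathlib.CategoryTheory.Sites.EpiMono
import Mathlib.Topology.Sheaves.Flasque

/-!
# Flasque Zariski sheaves of groups in a larger universe
-/

set_option autoImplicit false

universe u w

open CategoryTheory Limits AlgebraicGeometry Opposite TopologicalSpace Abelian

namespace Groth.Agent.Adeq2Lib.ZarFl

variable {S : Scheme.{u}}

/-- Restriction. -/
noncomputable abbrev rz (F : EtZar.Ab S) {V U : S.Opens} (h : V ≤ U) : F.obj.obj (op U) →+ F.obj.obj (op V) :=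
  (F.obj.map (homOfLE h).op).hom

theorem rz_comp (F : EtZar.Ab S) {W V U : S.Opens} (h : W ≤ V) (h' : V ≤ U) (x : F.obj.obj (op U)) :
    rz F h (rz F h' x) = rz F (h.trans h') x := by
  show (F.obj.map (homOfLE h').op ≫ F.obj.map (homOfLE h).op).hom x = _
  rw [← F.obj.map_comp]
  rfl

theorem rz_self (F : EtZar.Ab S) {U : S.Opens} (x : F.obj.obj (op U)) : rz F (le_refl U) x = x :=
  ConcreteCategory.congr_hom (F.obj.map_id (op U)) x

theorem rz_nat {F G : EtZar.Ab S} (φ : F ⟶ G) {V U : S.Opens} (h : V ≤ U) (x : F.obj.obj (op U)) :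
    (φ.hom.app (op V)).hom (rz F h x) = rz G h ((φ.hom.app (op U)).hom x) :=
  ConcreteCategory.congr_hom (φ.hom.naturality (homOfLE h).op) x

theorem isSheafForZ (F : EtZar.Ab S) {I : Type w} {U : S.Opens} (V : I → S.Opens) (h : ∀ i, V i ≤ U)
    (hcov : ∀ x ∈ U, ∃ i, x ∈ V i) :
    Presieve.IsSheafFor (F.obj ⋙ CategoryTheory.forget AddCommGrpCat.{u + 1}) (Presieve.ofArrows V fun i => homOfLE (h i)) := by
  have hG := Presheaf.isSheaf_comp_of_isSheaf (Opens.grothendieckTopology S) F.obj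
    (CategoryTheory.forget AddCommGrpCat.{u + 1}) F.property
  rw [isSheaf_iff_isSheaf_of_type] at hG
  rw [Presieve.isSheafFor_iff_generate]
  refine hG _ fun x hx => ?_
  obtain ⟨i, hi⟩ := hcov x hx
  exact ⟨V i, homOfLE (h i), Sieve.le_generate _ _ _ (Presieve.ofArrows.mk i), hi⟩

theorem eq_of_coverZ (F : EtZar.Ab S) {I : Type w} {U : S.Opens} (V : I → S.Opens) (h : ∀ i, V i ≤ U)
    (hcov : ∀ x ∈ U, ∃ i, x ∈ V i) (x y : F.obj.obj (op U)) (hxy : ∀ i, rz F (h i) x = rz F (h i) y) : x = y :=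
  (isSheafForZ F V h hcov).isSeparatedFor.ext (P := _) fun W w hw => by
    obtain ⟨i⟩ := hw
    exact hxy i

theorem glueZ (F : EtZar.Ab S) {I : Type w} {U : S.Opens} (V : I → S.Opens) (h : ∀ i, V i ≤ U)
    (hcov : ∀ x ∈ U, ∃ i, x ∈ V i) (y : ∀ i, F.obj.obj (op (V i)))
    (hy : ∀ i j (W : S.Opens) (p : W ≤ V i) (q : W ≤ V j), rz F p (y i) = rz F q (y j)) :
    ∃ x, ∀ i, rz F (h i) x = y i :=
  ((Presieve.isSheafFor_arrows_iff _ _).1 (isSheafForZ F V h hcov) y
    fun i j W p q _ => hy i j W (leOfHom p) (leOfHom q)).exists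

/-- All restriction maps are surjective. -/
def Flq (F : EtZar.Ab S) : Prop := ∀ ⦃V U : S.Opens⦄ (h : V ≤ U), Function.Surjective (rz F h)

/-- Sections over an open. -/
noncomputable abbrev secZ (U : S.Opens) : EtZar.Ab S ⥤ AddCommGrpCat.{u + 1} :=
  sheafToPresheaf _ _ ⋙ (evaluation _ _).obj (op U)

theorem secZ_exact (E : ShortComplex (EtZar.Ab S)) (hE : E.ShortExact) (U : S.Opens) :
    Function.Injective (E.f.hom.app (op U)).hom ∧
      ∀ y, (E.g.hom.app (op U)).hom y = 0 ↔ ∃ x, (E.f.hom.app (op U)).hom x = y := by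
  haveI := hE.mono_f
  haveI : (secZ U).Additive := ⟨fun {_ _ _ _} => rfl⟩
  haveI : PreservesFiniteLimits (secZ U) := inferInstance
  haveI : PreservesLimit (parallelPair E.g 0) (secZ U) := inferInstance
  haveI : Mono ((secZ U).map E.f) := inferInstance
  have h := (E.map (secZ U)).ab_exact_iff.1 (hE.exact.map_of_mono_of_preservesKernel (secZ U) ‹_› ‹_›)
  refine ⟨(AddCommGrpCat.mono_iff_injective ((secZ U).map E.f)).1 inferInstance, fun y => ⟨fun hy => h y hy, ?_⟩⟩
  rintro ⟨x, rfl⟩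
  exact ConcreteCategory.congr_hom (congrArg (fun α : E.X₁ ⟶ E.X₃ => α.hom.app (op U)) E.zero) x

/-- Sections lifting locally. -/
def locIm {F G : EtZar.Ab S} (g : F ⟶ G) (V : S.Opens) : AddSubgroup (G.obj.obj (op V)) where
  carrier := {y | ∀ x ∈ V, ∃ (W : S.Opens) (h : W ≤ V), x ∈ W ∧ ∃ t, (g.hom.app (op W)).hom t = rz G h y}
  zero_mem' := fun x hx => ⟨V, le_refl V, hx, 0, by rw [map_zero, map_zero]⟩
  add_mem' := fun {a b} ha hb x hx => by
    obtain ⟨W, h, hxW, t, ht⟩ := ha x hx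
    obtain ⟨W', h', hxW', t', ht'⟩ := hb x hx
    refine ⟨W ⊓ W', inf_le_left.trans h, ⟨hxW, hxW'⟩, rz F inf_le_left t + rz F inf_le_right t', ?_⟩
    rw [map_add, rz_nat, rz_nat, ht, ht', rz_comp, rz_comp, map_add]
  neg_mem' := fun {a} ha x hx => by
    obtain ⟨W, h, hxW, t, ht⟩ := ha x hx
    exact ⟨W, h, hxW, -t, by rw [map_neg, map_neg, ht]⟩

theorem locIm_mem {F G : EtZar.Ab S} (g : F ⟶ G) {W V : S.Opens} (h : W ≤ V) {y : G.obj.obj (op V)}
    (hy : y ∈ locIm g V) : rz G h y ∈ locIm g W := fun x hx => by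
  obtain ⟨O, hO, hxO, t, ht⟩ := hy x (h hx)
  refine ⟨W ⊓ O, inf_le_left, ⟨hx, hxO⟩, rz F inf_le_right t, ?_⟩
  rw [rz_nat, ht, rz_comp, rz_comp]

theorem exists_local_lift {F G : EtZar.Ab S} (g : F ⟶ G) [Epi g] (U : S.Opens) (y : G.obj.obj (op U)) : y ∈ locIm g U := by
  let K : (S.Opens)ᵒᵖ ⥤ AddCommGrpCat.{u + 1} :=
    { obj := fun V => AddCommGrpCat.of (locIm g V.unop)
      map := fun {V W} f => AddCommGrpCat.ofHom
        (((rz G (leOfHom f.unop)).comp (locIm g V.unop).subtype).codRestrict (locIm g W.unop)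
          fun y => locIm_mem g (leOfHom f.unop) y.2)
      map_id := fun V => AddCommGrpCat.hom_ext <| AddMonoidHom.ext fun y => Subtype.ext (rz_self G y.1)
      map_comp := fun f f' => AddCommGrpCat.hom_ext <| AddMonoidHom.ext fun y => Subtype.ext
        (rz_comp G (leOfHom f'.unop) (leOfHom f.unop) y.1).symm }
  have hK : Presheaf.IsSheaf (Opens.grothendieckTopology S) K := by
    refine Presheaf.isSheaf_of_isSheaf_comp _ _ (CategoryTheory.forget AddCommGrpCat.{u + 1}) ?_
    rw [isSheaf_iff_isSheaf_of_type]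
    intro V T hT z hz
    have hG := Presheaf.isSheaf_comp_of_isSheaf (Opens.grothendieckTopology S) G.obj
      (CategoryTheory.forget AddCommGrpCat.{u + 1}) G.property
    rw [isSheaf_iff_isSheaf_of_type] at hG
    let z' : Presieve.FamilyOfElements (G.obj ⋙ CategoryTheory.forget AddCommGrpCat.{u + 1}) T.arrows :=
      fun W f hf => (z f hf : locIm g W).1
    have hz' : z'.Compatible := fun W₁ W₂ W g₁ g₂ f₁ f₂ h₁ h₂ e => congrArg Subtype.val (hz g₁ g₂ h₁ h₂ e)
    obtain ⟨w, hw, huniq⟩ := hG T hT z' hz'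
    have hwK : w ∈ locIm g V := fun x hx => by
      obtain ⟨W, f, hf, hxW⟩ := hT x hx
      obtain ⟨O, hO, hxO, t, ht⟩ := (z f hf : locIm g W).2 x hxW
      refine ⟨O, hO.trans (leOfHom f), hxO, t, ht.trans ?_⟩
      exact (congrArg (rz G hO) (hw f hf).symm).trans (rz_comp G hO (leOfHom f) w)
    exact ⟨⟨w, hwK⟩, fun W f hf => Subtype.ext (hw f hf),
      fun w' hw' => Subtype.ext (huniq w'.1 fun W f hf => congrArg Subtype.val (hw' f hf))⟩
  let KS : EtZar.Ab S := ⟨K, hK⟩
  let ι : KS ⟶ G := ⟨{ app := fun V => AddCommGrpCat.ofHom (locIm g V.unop).subtype, naturality := fun V W f => rfl }⟩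
  let g' : F ⟶ KS := ⟨{
      app := fun V => AddCommGrpCat.ofHom ((g.hom.app V).hom.codRestrict (locIm g V.unop)
        fun t x hx => ⟨V.unop, le_refl _, hx, t, (rz_self G _).symm⟩)
      naturality := fun V W f => AddCommGrpCat.hom_ext <| AddMonoidHom.ext fun t => Subtype.ext
        (rz_nat g (leOfHom f.unop) t) }⟩
  have hfac : g' ≫ ι = g := by ext V t; rfl
  haveI : Epi ι := epi_of_epi_fac hfac
  haveI : Mono ι := by
    haveI : ∀ V, Mono (ι.hom.app V) := fun V => (AddCommGrpCat.mono_iff_injective _).2 Subtype.val_injective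
    haveI : Mono ι.hom := NatTrans.mono_of_mono_app _
    exact (sheafToPresheaf _ _).mono_of_mono_map (by assumption)
  haveI : IsIso ι := isIso_of_mono_of_epi ι
  let w := ((inv ι).hom.app (op U)).hom y
  have h : (w : locIm g U).1 = y :=
    ConcreteCategory.congr_hom (congrArg (fun α : G ⟶ G => α.hom.app (op U)) (IsIso.inv_hom_id ι)) y
  rw [← h]
  exact (w : locIm g U).2

/-- A partial lift of a section. -/
structure Part (E : ShortComplex (EtZar.Ab S)) {U : S.Opens} (s : E.X₃.obj.obj (op U)) where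
  /-- the domain -/
  dom : S.Opens
  le : dom ≤ U
  /-- the lift -/
  lift : E.X₂.obj.obj (op dom)
  lift_eq : (E.g.hom.app (op dom)).hom lift = rz E.X₃ le s

theorem surjective_of_flq (E : ShortComplex (EtZar.Ab S)) (hE : E.ShortExact) (h₁ : Flq E.X₁) (U : S.Opens) :
    Function.Surjective (E.g.hom.app (op U)).hom := by
  intro s
  let R : Part E s → Part E s → Prop := fun p q => ∃ h : p.dom ≤ q.dom, rz E.X₂ h q.lift = p.lift
  have htrans : ∀ {p q r}, R p q → R q r → R p r := by
    rintro p q r ⟨h, e⟩ ⟨h', e'⟩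
    exact ⟨h.trans h', by rw [← rz_comp E.X₂ h h', e', e]⟩
  obtain ⟨m, hm⟩ : ∃ m, ∀ p, R m p → R p m := by
    refine exists_maximal_of_chains_bounded (fun c hc => ?_) htrans
    let V : c → S.Opens := fun p => p.1.dom
    obtain ⟨x, hx⟩ := glueZ E.X₂ (U := iSup V) V (fun p => le_iSup V p)
      (fun x hx => Opens.mem_iSup.1 hx) (fun p => p.1.lift) fun i j W p q => by
        rcases eq_or_ne i.1 j.1 with e | e
        · obtain rfl : i = j := Subtype.ext e
          rfl
        rcases hc i.2 j.2 e with ⟨h, e'⟩ | ⟨h, e'⟩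
        · rw [← e', rz_comp]
        · rw [← e', rz_comp]
    refine ⟨⟨iSup V, iSup_le fun p => p.1.le, x, ?_⟩, fun p hp => ⟨le_iSup V ⟨p, hp⟩, hx ⟨p, hp⟩⟩⟩
    refine eq_of_coverZ E.X₃ V (fun p => le_iSup V p) (fun x hx => Opens.mem_iSup.1 hx) _ _ fun p => ?_
    rw [← rz_nat, hx p, p.1.lift_eq, rz_comp]
  have hle : U ≤ m.dom := by
    intro x hx
    haveI := hE.epi_g
    obtain ⟨W₀, hW, hxW, t₁, ht₁⟩ := exists_local_lift E.g U s x hx
    have ht₁' : (E.g.hom.app (op W₀)).hom t₁ = rz E.X₃ hW s := ht₁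
    obtain ⟨c, hc⟩ := ((secZ_exact E hE (m.dom ⊓ W₀)).2 (rz E.X₂ inf_le_left m.lift - rz E.X₂ inf_le_right t₁)).1 (by
      rw [map_sub, rz_nat, rz_nat, m.lift_eq, ht₁', rz_comp, rz_comp, sub_self])
    obtain ⟨c', rfl⟩ := h₁ (inf_le_right : m.dom ⊓ W₀ ≤ W₀) c
    rw [rz_nat] at hc
    let t₂ := t₁ + (E.f.hom.app (op W₀)).hom c'
    have hagree : rz E.X₂ (inf_le_left : m.dom ⊓ W₀ ≤ m.dom) m.lift = rz E.X₂ (inf_le_right : m.dom ⊓ W₀ ≤ W₀) t₂ := by
      rw [map_add, hc, add_sub_cancel]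
    have ht₂ : (E.g.hom.app (op W₀)).hom t₂ = rz E.X₃ hW s := by
      rw [map_add, ht₁', ((secZ_exact E hE W₀).2 _).2 ⟨c', rfl⟩, add_zero]
    let Vb : Bool → S.Opens := fun b => cond b m.dom W₀
    let y : ∀ b, E.X₂.obj.obj (op (Vb b)) := fun b => match b with
      | true => m.lift
      | false => t₂
    obtain ⟨z, hz⟩ := glueZ E.X₂ (U := m.dom ⊔ W₀) Vb (fun b => by cases b; exacts [le_sup_right, le_sup_left])
      (fun x hx => by rcases hx with h | h; exacts [⟨true, h⟩, ⟨false, h⟩]) y fun i j W p q => by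
        match i, j, p, q with
        | true, true, p, q => rfl
        | false, false, p, q => rfl
        | true, false, p, q =>
          have h := congrArg (rz E.X₂ (le_inf p q : W ≤ m.dom ⊓ W₀)) hagree
          rwa [rz_comp, rz_comp] at h
        | false, true, p, q =>
          have h := congrArg (rz E.X₂ (le_inf q p : W ≤ m.dom ⊓ W₀)) hagree
          rw [rz_comp, rz_comp] at h
          exact h.symm
    let m' : Part E s := ⟨m.dom ⊔ W₀, sup_le m.le hW, z, by
      refine eq_of_coverZ E.X₃ Vb (fun b => by cases b; exacts [le_sup_right, le_sup_left])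
        (fun x hx => by rcases hx with h | h; exacts [⟨true, h⟩, ⟨false, h⟩]) _ _ fun b => ?_
      cases b
      · rw [← rz_nat, hz false, rz_comp]; exact ht₂
      · rw [← rz_nat, hz true, rz_comp]; exact m.lift_eq⟩
    exact (hm m' ⟨le_sup_left, hz true⟩).1 (Or.inr hxW)
  refine ⟨rz E.X₂ hle m.lift, ?_⟩
  rw [rz_nat, m.lift_eq, rz_comp]
  exact rz_self E.X₃ s

theorem flq_cokernel (E : ShortComplex (EtZar.Ab S)) (hE : E.ShortExact) (h₁ : Flq E.X₁) (h₂ : Flq E.X₂) : Flq E.X₃ := by
  intro V U h y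
  obtain ⟨x, rfl⟩ := surjective_of_flq E hE h₁ V y
  obtain ⟨x', rfl⟩ := h₂ h x
  exact ⟨(E.g.hom.app (op U)).hom x', (rz_nat E.g h x').symm⟩

theorem flq_injective (I : EtZar.Ab S) [Injective I] : Flq I := by
  classical
  haveI : Injective I.obj := Injective.injective_of_adjoint (sheafificationAdjunction _ _) I
  let C : (S.Opens)ᵒᵖ ⥤ AddCommGrpCat.{u + 1} :=
    { obj := fun U => AddCommGrpCat.of (∀ V : S.Opens, (V ⟶ U.unop) → I.obj.obj (op V))
      map := fun f => AddCommGrpCat.ofHom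
        { toFun := fun x V h => x V (h ≫ f.unop)
          map_zero' := rfl
          map_add' := fun _ _ => rfl }
      map_id := fun U => AddCommGrpCat.hom_ext <| AddMonoidHom.ext fun x => funext₂ fun V h =>
        congrArg (x V) (Category.comp_id h)
      map_comp := fun f g => AddCommGrpCat.hom_ext <| AddMonoidHom.ext fun x => funext₂ fun V h =>
        congrArg (x V) (Category.assoc h _ _).symm }
  let j : I.obj ⟶ C :=
    { app := fun U => AddCommGrpCat.ofHom
        { toFun := fun s V h => (I.obj.map h.op).hom s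
          map_zero' := by funext V h; exact map_zero _
          map_add' := fun _ _ => by funext V h; exact map_add _ _ _ }
      naturality := fun U V f => AddCommGrpCat.hom_ext <| AddMonoidHom.ext fun s => funext fun W => funext fun h =>
        congrArg (fun t => t.hom s) (I.obj.map_comp f h.op).symm }
  haveI : Mono j := by
    have : ∀ U, Mono (j.app U) := fun U => (AddCommGrpCat.mono_iff_injective _).2 fun s s' hs => by
      have h : (I.obj.map (𝟙 U.unop).op).hom s = (I.obj.map (𝟙 U.unop).op).hom s' := congrFun (congrFun hs U.unop) (𝟙 _)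
      rwa [op_id, CategoryTheory.Functor.map_id] at h
    exact NatTrans.mono_of_mono_app _
  let ρ := Injective.factorThru (𝟙 I.obj) j
  intro V U h x
  let y : C.obj (op U) := fun W _ => if hk : W ≤ V then rz I hk x else 0
  refine ⟨(ρ.app (op U)).hom y, ?_⟩
  refine (ConcreteCategory.congr_hom (ρ.naturality (homOfLE h).op) y).symm.trans ?_
  have hy : (C.map (homOfLE h).op).hom y = (j.app (op V)).hom x := funext₂ fun W k => by
    show (if hk : W ≤ V then rz I hk x else 0) = (I.obj.map k.op).hom x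
    rw [dif_pos (leOfHom k)]
    rfl
  refine (congrArg (ρ.app (op V)).hom hy).trans ?_
  exact ConcreteCategory.congr_hom (congrArg (fun α => NatTrans.app α (op V)) (Injective.comp_factorThru (𝟙 I.obj) j)) x

theorem subsingleton_H_of_flq (n : ℕ) : ∀ F : EtZar.Ab S, Flq F → Subsingleton (EtZar.H F (n + 1)) := by
  have hT : IsTerminal (⊤ : S.Opens) := IsTerminal.ofUnique _
  induction n with
  | zero =>
    intro F hF
    let P := Classical.arbitrary (InjectivePresentation F)
    have hE := P.shortExact_shortComplex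
    refine subsingleton_of_forall_eq 0 fun x => ?_
    obtain ⟨y, rfl⟩ := Ext.covariant_sequence_exact₁ _ hE x
      ((Ext.eq_zero_of_injective (I := P.J) _)) (n₀ := 0) rfl
    obtain ⟨t, ht⟩ := surjective_of_flq P.shortComplex hE hF ⊤ (Sheaf.H.equiv₀ P.shortComplex.X₃ hT y)
    have hy : y = Sheaf.H.map P.shortComplex.g 0 ((Sheaf.H.equiv₀ P.shortComplex.X₂ hT).symm t) := by
      refine (Sheaf.H.equiv₀ P.shortComplex.X₃ hT).injective ?_
      rw [← Sheaf.H.equiv₀_naturality, AddEquiv.apply_symm_apply]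
      exact ht.symm
    rw [hy, Sheaf.H.map_apply, Ext.comp_assoc_of_second_deg_zero, hE.comp_extClass, Ext.comp_zero]
  | succ n ih =>
    intro F hF
    let P := Classical.arbitrary (InjectivePresentation F)
    have hE := P.shortExact_shortComplex
    haveI : Injective P.shortComplex.X₂ := P.injective
    refine subsingleton_of_forall_eq 0 fun x => ?_
    obtain ⟨y, rfl⟩ := Ext.covariant_sequence_exact₁ _ hE x
      ((Ext.eq_zero_of_injective (I := P.J) _)) (n₀ := n + 1) rfl
    haveI := ih _ (flq_cokernel _ hE hF (flq_injective P.shortComplex.X₂))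
    rw [Subsingleton.elim (α := EtZar.H P.shortComplex.X₃ (n + 1)) y 0, Ext.zero_comp]

end Groth.Agent.Adeq2Lib.ZarFl
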