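import Groth.Agent.Adeq2Lib.AffineVanish
import Groth.Agent.Adeq2Lib.ZarFlasque

/-!
# Zariski and fppf cohomology of sheaves without affine Cech cohomology
-/

set_option autoImplicit false

universe w' w v u

open CategoryTheory Limits AlgebraicGeometry Opposite TopologicalSpace Abelian

namespace Groth.Agent.Adeq2Lib.ZarCmp

section Site

variable {C : Type u} [Category.{v} C] {J : GrothendieckTopology C} [HasSheafify J AddCommGrpCat.{w}]
  [HasExt.{w'} (Sheaf J AddCommGrpCat.{w})] {T : C} (hT : IsTerminal T)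

include hT in
/-- First cohomology as a quotient of global sections. -/
theorem h1_pres (E : ShortComplex (Sheaf J AddCommGrpCat.{w})) (hE : E.ShortExact) [Subsingleton (Sheaf.H E.X₂ 1)] :
    ∃ φ : E.X₃.obj.obj (op T) →+ Sheaf.H E.X₁ 1, Function.Surjective φ ∧
      ∀ y, φ y = 0 ↔ ∃ x, (E.g.hom.app (op T)).hom x = y := by
  refine ⟨(hE.extClass.postcomp _ (zero_add 1)).comp (Sheaf.H.equiv₀ E.X₃ hT).symm.toAddMonoidHom, fun z => ?_, fun y => ⟨fun h => ?_, ?_⟩⟩
  · obtain ⟨y, rfl⟩ := Ext.covariant_sequence_exact₁ _ hE z (Subsingleton.elim (α := Sheaf.H E.X₂ 1) _ _) (n₀ := 0) rfl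
    exact ⟨Sheaf.H.equiv₀ E.X₃ hT y,
      congrArg (fun t : Sheaf.H E.X₃ 0 => t.comp hE.extClass (zero_add 1)) ((Sheaf.H.equiv₀ E.X₃ hT).symm_apply_apply y)⟩
  · obtain ⟨x, hx⟩ := Ext.covariant_sequence_exact₃ _ hE ((Sheaf.H.equiv₀ E.X₃ hT).symm y) (n₁ := 1) (zero_add 1) h
    refine ⟨Sheaf.H.equiv₀ E.X₂ hT x, ?_⟩
    rw [Sheaf.H.equiv₀_naturality, Sheaf.H.map_apply, hx, AddEquiv.apply_symm_apply]
  · rintro ⟨x, rfl⟩
    show ((Sheaf.H.equiv₀ E.X₃ hT).symm ((E.g.hom.app (op T)).hom x)).comp hE.extClass (zero_add 1) = 0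
    rw [← Sheaf.H.equiv₀_symm_naturality, Sheaf.H.map_apply, Ext.comp_assoc_of_second_deg_zero, hE.comp_extClass,
      Ext.comp_zero]

/-- Dimension shifting. -/
theorem shift (E : ShortComplex (Sheaf J AddCommGrpCat.{w})) (hE : E.ShortExact) (n : ℕ)
    [Subsingleton (Sheaf.H E.X₂ (n + 1))] [Subsingleton (Sheaf.H E.X₂ (n + 1 + 1))] :
    Nonempty (Sheaf.H E.X₃ (n + 1) ≃+ Sheaf.H E.X₁ (n + 1 + 1)) := by
  refine ⟨AddEquiv.ofBijective (hE.extClass.postcomp _ rfl) ⟨?_, fun z => ?_⟩⟩
  · refine (injective_iff_map_eq_zero _).2 fun y hy => ?_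
    obtain ⟨x, rfl⟩ := Ext.covariant_sequence_exact₃ _ hE y (n₁ := n + 1 + 1) rfl hy
    rw [Subsingleton.elim (α := Sheaf.H E.X₂ (n + 1)) x 0, Ext.zero_comp]
  · obtain ⟨y, hy⟩ := Ext.covariant_sequence_exact₁ _ hE z (Subsingleton.elim (α := Sheaf.H E.X₂ (n + 1 + 1)) _ _) (n₀ := n + 1) rfl
    exact ⟨y, hy⟩

end Site

theorem quot_congr {A A' B B' : Type*} [AddCommGroup A] [AddCommGroup A'] [AddCommGroup B] [AddCommGroup B']
    (φ : A →+ B) (hφ : Function.Surjective φ) (φ' : A' →+ B') (hφ' : Function.Surjective φ') (e : A ≃+ A')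
    (h : ∀ a, φ a = 0 ↔ φ' (e a) = 0) : Nonempty (B ≃+ B') := by
  refine ⟨((QuotientAddGroup.quotientKerEquivOfSurjective φ hφ).symm.trans
    ((QuotientAddGroup.congr φ.ker φ'.ker e ?_).trans (QuotientAddGroup.quotientKerEquivOfSurjective φ' hφ')))⟩
  ext a'
  obtain ⟨a, rfl⟩ := e.surjective a'
  exact (AddSubgroup.mem_map_iff_mem (f := e.toAddMonoidHom) e.injective).trans (h a)

open AffVan ZarFl

variable {S : Scheme.{u}} [BigSite.ZarCont Scheme.fppfPrecoverage S]

/-- Restriction to the Zariski site. -/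
noncomputable abbrev res (G : AbT S) : EtZar.Ab S := (BigSite.resZar Scheme.fppfPrecoverage S).obj G

/-- The global object. -/
noncomputable def topObj : (BigSite.zarIncl S).obj (⊤ : S.Opens) ≅ Over.mk (𝟙 S) :=
  Over.isoMk S.topIso (Category.comp_id _)

/-- An affine open as a spectrum over the base. -/
noncomputable def affObj {V : S.Opens} (hV : IsAffineOpen V) : Over.mk hV.fromSpec ≅ (BigSite.zarIncl S).obj V :=
  Over.isoMk hV.isoSpec.symm rfl

/-- Transport of sections. -/
noncomputable def secEquiv (G : AbT S) {U V : Over S} (e : U ≅ V) : G.obj.obj (op U) ≃+ G.obj.obj (op V) where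
  toFun := rA G e.inv
  invFun := rA G e.hom
  left_inv x := by rw [rA_comp, e.hom_inv_id, rA_id]
  right_inv x := by rw [rA_comp, e.inv_hom_id, rA_id]
  map_add' x y := map_add _ x y

theorem secEquiv_nat {G G' : AbT S} (f : G ⟶ G') {U V : Over S} (e : U ≅ V) (x : G.obj.obj (op U)) :
    (f.hom.app (op V)).hom (secEquiv G e x) = secEquiv G' e ((f.hom.app (op U)).hom x) :=
  ConcreteCategory.congr_hom (f.hom.naturality e.inv.op) x

omit [BigSite.ZarCont Scheme.fppfPrecoverage S] in
theorem surjective_mono (I : AbT S) [Injective I] {U V : Over S} (m : U ⟶ V) [Mono m] :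
    Function.Surjective (rA I m) := by
  classical
  haveI : Injective I.obj := Injective.injective_of_adjoint (sheafificationAdjunction _ _) I
  haveI : Mono (toCofree I.obj) := by
    have : ∀ U, Mono ((toCofree I.obj).app U) := fun U => (AddCommGrpCat.mono_iff_injective _).2
      fun s s' hs => by
        have h : (I.obj.map (𝟙 U.unop).op).hom s = (I.obj.map (𝟙 U.unop).op).hom s' := congrFun (congrFun hs U.unop) (𝟙 _)
        rwa [op_id, CategoryTheory.Functor.map_id] at h
    exact NatTrans.mono_of_mono_app _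
  let ρ := Injective.factorThru (𝟙 I.obj) (toCofree I.obj)
  intro x
  let y : (cofree I.obj).obj (op V) := fun W h => if hk : ∃ k : W ⟶ U, k ≫ m = h then rA I hk.choose x else 0
  refine ⟨(ρ.app (op V)).hom y, ?_⟩
  refine (ConcreteCategory.congr_hom (ρ.naturality m.op) y).symm.trans ?_
  have hy : ((cofree I.obj).map m.op).hom y = ((toCofree I.obj).app (op U)).hom x := funext₂ fun W k => by
    have hk : ∃ k' : W ⟶ U, k' ≫ m = k ≫ m := ⟨k, rfl⟩
    show (if hk : ∃ k' : W ⟶ U, k' ≫ m = k ≫ m then rA I hk.choose x else 0) = (I.obj.map k.op).hom x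
    rw [dif_pos hk, (cancel_mono m).1 hk.choose_spec]
  refine (congrArg (ρ.app (op U)).hom hy).trans ?_
  exact ConcreteCategory.congr_hom (congrArg (fun α => NatTrans.app α (op U)) (Injective.comp_factorThru (𝟙 I.obj) (toCofree I.obj))) x

theorem flq_res (I : AbT S) [Injective I] : Flq (res I) := fun V U h => by
  haveI : Mono ((BigSite.zarIncl S).map (homOfLE h)) := by
    exact (Over.forget S).mono_of_mono_map (inferInstanceAs (Mono (S.homOfLE h)))
  exact surjective_mono I ((BigSite.zarIncl S).map (homOfLE h))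

theorem surjective_affine (E : ShortComplex (AbT S)) (hE : E.ShortExact) (h₁ : Acy E.X₁) {V : S.Opens} (hV : IsAffineOpen V) :
    Function.Surjective (E.g.hom.app (op ((BigSite.zarIncl S).obj V))).hom := fun s => by
  obtain ⟨t, ht⟩ := surjective_sections hV.fromSpec E hE h₁ ((secEquiv E.X₃ (affObj hV)).symm s)
  refine ⟨secEquiv E.X₂ (affObj hV) t, ?_⟩
  rw [secEquiv_nat, ht, AddEquiv.apply_symm_apply]

theorem shortExact_res (E : ShortComplex (AbT S)) (hE : E.ShortExact) (h₁ : Acy E.X₁) :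
    (E.map (BigSite.resZar Scheme.fppfPrecoverage S)).ShortExact := by
  haveI := hE.mono_f
  haveI : (BigSite.resZar Scheme.fppfPrecoverage S).IsRightAdjoint := (BigSite.piZarAdj Scheme.fppfPrecoverage S).isRightAdjoint
  haveI : Mono ((BigSite.resZar Scheme.fppfPrecoverage S).map E.f) := inferInstance
  have hepi : Epi ((BigSite.resZar Scheme.fppfPrecoverage S).map E.g) := by
    refine ⟨fun {H} p q hpq => ?_⟩
    ext U s
    refine eq_of_coverZ H (I := { V : S.affineOpens // V.1 ≤ U.unop }) (fun V => V.1.1) (fun V => V.2) (fun x hx => ?_) _ _ fun V => ?_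
    · obtain ⟨W, hW, hxW, hWU⟩ := (Opens.isBasis_iff_nbhd.1 S.isBasis_affineOpens) hx
      exact ⟨⟨⟨W, hW⟩, hWU⟩, hxW⟩
    · rw [← rz_nat, ← rz_nat]
      obtain ⟨t, ht⟩ := surjective_affine E hE h₁ V.1.2 (rz (res E.X₃) V.2 s)
      rw [← ht]
      exact ConcreteCategory.congr_hom (congrArg (fun α : res E.X₂ ⟶ H => α.hom.app (op V.1.1)) hpq) t
  exact { exact := hE.exact.map_of_mono_of_preservesKernel _ ‹_› inferInstance
          mono_f := ‹_›
          epi_g := hepi }

theorem main (n : ℕ) : ∀ G : AbT S, Acy G → Nonempty (EtZar.H (res G) n ≃+ Sheaf.H G n) := by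
  have hT : IsTerminal (⊤ : S.Opens) := IsTerminal.ofUnique _
  have hT' : IsTerminal (Over.mk (𝟙 S)) := Over.mkIdTerminal
  induction n with
  | zero =>
    exact fun G _ => ⟨(Sheaf.H.equiv₀ (res G) hT).trans ((secEquiv G topObj).trans (Sheaf.H.equiv₀ G hT').symm)⟩
  | succ m ih =>
    intro G hG
    let P := Classical.arbitrary (InjectivePresentation G)
    have hE := P.shortExact_shortComplex
    haveI : Injective P.shortComplex.X₂ := P.injective
    have hE' := shortExact_res P.shortComplex hE hG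
    haveI : ∀ k, Subsingleton (EtZar.H (P.shortComplex.map (BigSite.resZar Scheme.fppfPrecoverage S)).X₂ (k + 1)) :=
      fun k => subsingleton_H_of_flq k _ (flq_res P.shortComplex.X₂)
    haveI : ∀ k, Subsingleton (Sheaf.H P.shortComplex.X₂ (k + 1)) := fun k =>
      subsingleton_of_forall_eq 0 fun x => Ext.eq_zero_of_injective x
    cases m with
    | zero =>
      obtain ⟨φ, hφ, hk⟩ := h1_pres hT _ hE'
      obtain ⟨φ', hφ', hk'⟩ := h1_pres hT' _ hE
      refine quot_congr φ hφ φ' hφ' (secEquiv P.shortComplex.X₃ topObj) fun y => (hk y).trans (Iff.trans ⟨?_, ?_⟩ (hk' _).symm)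
      · rintro ⟨x, rfl⟩
        exact ⟨secEquiv P.shortComplex.X₂ topObj x, secEquiv_nat _ _ _⟩
      · rintro ⟨x, hx⟩
        refine ⟨(secEquiv P.shortComplex.X₂ topObj).symm x, (secEquiv P.shortComplex.X₃ topObj).injective ?_⟩
        refine (secEquiv_nat _ _ _).symm.trans ?_
        rw [AddEquiv.apply_symm_apply]
        exact hx
    | succ k =>
      obtain ⟨e₁⟩ := shift _ hE' k
      obtain ⟨e₂⟩ := shift _ hE k
      obtain ⟨e₃⟩ := ih _ (acy_cokernel _ hE hG (acy_injective P.shortComplex.X₂))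
      exact ⟨(e₁.symm.trans e₃).trans e₂⟩

end Groth.Agent.Adeq2Lib.ZarCmp
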